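import Cfsg.Agent.Lib.AltPFree.Small

/-!
Good conjugates on `n` points from good pairs on an invariant subset, with the parity bookkeeping.
-/

set_option autoImplicit false

namespace CfsgLib.AltPFree

open Equiv Equiv.Perm List Subgroup

theorem cycleType_viaEmbeddingHom {α β : Type*} [Fintype α] [DecidableEq α] [Fintype β] [DecidableEq β]
    (f : α ↪ β) (g : Perm α) : (Perm.viaEmbeddingHom f g).cycleType = g.cycleType := by
  classical
  rw [Perm.viaEmbeddingHom_apply, Perm.viaEmbedding]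
  convert Equiv.Perm.cycleType_extendDomain _ using 3

theorem exists_product (m k : ℕ) :
    ∃ Φ : Perm (Fin m) × Perm (Fin k) →* Perm (Fin (m + k)), Function.Injective Φ ∧
      ∀ x y, (Φ (x, y)).cycleType = x.cycleType + y.cycleType := by
  let f₁ : Fin m ↪ Fin (m + k) := ⟨Fin.castAdd k, Fin.castAdd_injective m k⟩
  let f₂ : Fin k ↪ Fin (m + k) := ⟨Fin.natAdd m, Fin.natAdd_injective k m⟩
  have hno : ∀ i j, f₁ i ≠ f₂ j := fun i j h => by
    have := congrArg Fin.val h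
    simp [f₁, f₂] at this
    omega
  have hd : ∀ x y, Perm.Disjoint (Perm.viaEmbeddingHom f₁ x) (Perm.viaEmbeddingHom f₂ y) := by
    intro x y z
    by_cases hz : z ∈ Set.range f₁
    · refine Or.inr (Perm.viaEmbedding_apply_of_notMem _ _ _ ?_)
      rintro ⟨j, rfl⟩
      obtain ⟨i, hi⟩ := hz
      exact hno i j hi
    · exact Or.inl (Perm.viaEmbedding_apply_of_notMem _ _ _ hz)
  refine ⟨MonoidHom.noncommCoprod (Perm.viaEmbeddingHom f₁) (Perm.viaEmbeddingHom f₂)
    (fun x y => (hd x y).commute), ?_, fun x y => ?_⟩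
  · rw [injective_iff_map_eq_one]
    rintro ⟨x, y⟩ h
    rw [MonoidHom.noncommCoprod_apply] at h
    obtain ⟨hx, hy⟩ := (hd x y).mul_eq_one_iff.1 h
    rw [← map_one (Perm.viaEmbeddingHom f₁)] at hx
    rw [← map_one (Perm.viaEmbeddingHom f₂)] at hy
    exact Prod.ext (Perm.viaEmbeddingHom_injective f₁ hx) (Perm.viaEmbeddingHom_injective f₂ hy)
  · rw [MonoidHom.noncommCoprod_apply, (hd x y).cycleType_mul, cycleType_viaEmbeddingHom,
      cycleType_viaEmbeddingHom]

theorem exists_placed {p n m : ℕ} (hp : p.Prime) (hmn : m ≤ n) {u w : Perm (Fin n)} {U V U' V' : Multiset ℕ}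
    (hu : u.cycleType = U + U') (hU : U'.sum ≤ n - m) (hw : w.cycleType = V + V') (hV : V'.sum ≤ n - m)
    {a b : Perm (Fin m)} (ha : a.cycleType = U) (hb : b.cycleType = V) :
    ∃ (T : Perm (Fin m) →* Perm (Fin n)) (k j : Perm (Fin n)), (∀ x, Perm.sign (T x) = Perm.sign x) ∧
      ∀ π : Perm (Fin m), Good p a (π * b * π⁻¹) →
        Good p u (k⁻¹ * T π * j * w * (k⁻¹ * T π * j)⁻¹) := by
  obtain ⟨r, rfl⟩ := Nat.exists_eq_add_of_le hmn
  rw [Nat.add_sub_cancel_left] at hU hV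
  have h2 : ∀ x ∈ U', 2 ≤ x := fun x hx =>
    two_le_of_mem_cycleType (σ := u) (hu ▸ Multiset.mem_add.2 (Or.inr hx))
  have h2' : ∀ x ∈ V', 2 ≤ x := fun x hx =>
    two_le_of_mem_cycleType (σ := w) (hw ▸ Multiset.mem_add.2 (Or.inr hx))
  obtain ⟨u₂, hu₂⟩ := (Perm.exists_with_cycleType_iff (α := Fin r)).2 ⟨by simpa using hU, h2⟩
  obtain ⟨w₂, hw₂⟩ := (Perm.exists_with_cycleType_iff (α := Fin r)).2 ⟨by simpa using hV, h2'⟩
  obtain ⟨Φ, hΦ, hct⟩ := exists_product m r
  obtain ⟨k, hk⟩ := isConj_iff.1 (isConj_iff_cycleType_eq.2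
    (show u.cycleType = (Φ (a, u₂)).cycleType by rw [hct, ha, hu₂, hu]))
  obtain ⟨j, hj⟩ := isConj_iff.1 (isConj_iff_cycleType_eq.2
    (show w.cycleType = (Φ (b, w₂)).cycleType by rw [hct, hb, hw₂, hw]))
  refine ⟨Φ.comp (MonoidHom.inl _ _), k, j, fun x => ?_, fun π hg => ?_⟩
  · rw [MonoidHom.comp_apply, MonoidHom.inl_apply, sign_of_cycleType, sign_of_cycleType, hct]
    simp
  have h1 : Good p (Φ (a, u₂)) (Φ ((π, 1) * (b, w₂) * (π, 1)⁻¹)) :=
    (Good.of_map hp (MonoidHom.fst _ _) (u := (a, u₂)) (v := (π, 1) * (b, w₂) * (π, 1)⁻¹)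
      (by simpa using hg)).map_injective Φ hΦ
  have h3 := h1.conj k⁻¹
  rw [← hk, map_mul, map_mul, map_inv, ← hj] at h3
  rw [MonoidHom.comp_apply, MonoidHom.inl_apply]
  convert h3 using 1 <;> group

/-- A good conjugate in the alternating group. -/
def Result {n : ℕ} (p : ℕ) (u w : Perm (Fin n)) : Prop :=
  ∃ g : Perm (Fin n), Perm.sign g = 1 ∧ Good p u (g * w * g⁻¹)

theorem Result.symm {n p : ℕ} {u w : Perm (Fin n)} (h : Result p w u) : Result p u w := by
  obtain ⟨g, hg, hG⟩ := h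
  refine ⟨g⁻¹, by rw [map_inv, hg, inv_one], ?_⟩
  have := hG.conj g⁻¹
  simp only [mul_assoc, inv_mul_cancel_left, inv_inv, inv_mul_cancel, mul_one] at this
  simpa [mul_assoc] using this.symm

theorem result_of_pair {p n m : ℕ} (hp : p.Prime) (hmn : m ≤ n) {u w : Perm (Fin n)}
    {U V U' V' : Multiset ℕ} (hu : u.cycleType = U + U') (hU : U'.sum ≤ n - m)
    (hw : w.cycleType = V + V') (hV : V'.sum ≤ n - m) (hP : Pair p m U V)
    (hodd : ¬ Subgroup.centralizer {w} ≤ alternatingGroup (Fin n)) : Result p u w := by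
  obtain ⟨a, b, ha, hb, hg⟩ := hP
  obtain ⟨T, k, j, -, hT⟩ := exists_placed hp hmn hu hU hw hV ha hb
  have hG := hT 1 (by simpa using hg)
  set h := k⁻¹ * T 1 * j
  rcases Int.units_eq_one_or (Perm.sign h) with hs | hs
  · exact ⟨h, hs, hG⟩
  · obtain ⟨c, hc, hc'⟩ := SetLike.not_le_iff_exists.1 hodd
    rw [mem_alternatingGroup] at hc'
    have hcs : Perm.sign c = -1 := (Int.units_eq_one_or _).resolve_left hc'
    refine ⟨h * c, by rw [map_mul, hs, hcs]; rfl, ?_⟩
    have hcw : c * w * c⁻¹ = w := by rw [mem_centralizer_singleton_iff.1 hc, mul_inv_cancel_right]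
    rwa [show h * c * w * (h * c)⁻¹ = h * (c * w * c⁻¹) * h⁻¹ by group, hcw]

theorem result_of_pair₂ {p n m : ℕ} (hp : p.Prime) (hmn : m ≤ n) {u w : Perm (Fin n)}
    {U V U' V' : Multiset ℕ} (hu : u.cycleType = U + U') (hU : U'.sum ≤ n - m)
    (hw : w.cycleType = V + V') (hV : V'.sum ≤ n - m) (hP : Pair₂ p m U V) : Result p u w := by
  obtain ⟨a, b, π, ha, hb, hπ, hg, hg'⟩ := hP
  obtain ⟨T, k, j, hTs, hT⟩ := exists_placed hp hmn hu hU hw hV ha hb
  have h1 := hT 1 (by simpa using hg)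
  have h2 := hT π hg'
  rcases Int.units_eq_one_or (Perm.sign (k⁻¹ * T 1 * j)) with hs | hs
  · exact ⟨_, hs, h1⟩
  · refine ⟨_, ?_, h2⟩
    rw [map_mul, map_mul, hTs] at hs ⊢
    rw [Perm.sign_one, mul_one] at hs
    rw [hπ, mul_neg, mul_one, neg_mul, hs, neg_neg]

theorem mem_select (p : ℕ) : ∀ (M : Multiset ℕ) (T : ℕ), (∀ x ∈ M, ∃ i, x = p ^ i) → (∀ x ∈ M, x ∣ T) →
    T ≤ M.sum → ∃ N ≤ M, N.sum = T := by
  intro M
  induction M using Multiset.strongInductionOn with
  | _ M ih =>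
    intro T hpow hdvd hle
    rcases Nat.eq_zero_or_pos T with rfl | hT
    · exact ⟨0, Multiset.zero_le _, rfl⟩
    have hM : M ≠ 0 := by rintro rfl; simp at hle; omega
    obtain ⟨x, hx⟩ := Multiset.exists_mem_of_ne_zero hM
    obtain ⟨l, hlM, hlmax⟩ : ∃ l ∈ M, ∀ y ∈ M, y ≤ l := by
      obtain ⟨l, hl, hl'⟩ := M.toFinset.exists_max_image id ⟨x, Multiset.mem_toFinset.2 hx⟩
      exact ⟨l, Multiset.mem_toFinset.1 hl, fun y hy => hl' y (Multiset.mem_toFinset.2 hy)⟩
    have hlT : l ≤ T := Nat.le_of_dvd hT (hdvd l hlM)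
    have hdl : ∀ y ∈ M, y ∣ l := by
      intro y hy
      obtain ⟨i, rfl⟩ := hpow y hy
      obtain ⟨k, rfl⟩ := hpow l hlM
      rcases le_or_gt i k with h | h
      · exact pow_dvd_pow p h
      · have h1 := hlmax _ hy
        have h2 := hdvd _ hy
        rcases Nat.lt_or_ge p 2 with hp | hp
        · interval_cases p
          · rw [zero_pow (by omega)] at h2
            exact absurd (zero_dvd_iff.1 h2) (by omega)
          · simp
        · exact absurd h1 (Nat.not_le.2 (Nat.pow_lt_pow_right hp h))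
    obtain ⟨N, hN, hNs⟩ := ih (M.erase l) (Multiset.erase_lt.2 hlM) (T - l)
      (fun y hy => hpow y (Multiset.mem_of_mem_erase hy))
      (fun y hy => Nat.dvd_sub (hdvd y (Multiset.mem_of_mem_erase hy)) (hdl y (Multiset.mem_of_mem_erase hy)))
      (by
        have := congrArg Multiset.sum (Multiset.cons_erase hlM)
        rw [Multiset.sum_cons] at this
        omega)
    refine ⟨l ::ₘ N, ?_, by rw [Multiset.sum_cons, hNs]; omega⟩
    rw [← Multiset.cons_erase hlM]
    exact Multiset.cons_le_cons l hN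

theorem two_mul_sum_powers_le {p : ℕ} (hp : 3 ≤ p) : ∀ (i : ℕ) (M : Multiset ℕ), M.Nodup →
    (∀ x ∈ M, ∃ k, k < i ∧ x = p ^ k) → 2 * M.sum ≤ p ^ i
  | 0, M, _, h => by
    rw [Multiset.eq_zero_of_forall_notMem (s := M) fun x hx => by obtain ⟨k, hk, -⟩ := h x hx; omega]
    simp
  | i + 1, M, hnd, h => by
    have h1 := two_mul_sum_powers_le hp i (M.erase (p ^ i)) (hnd.erase _) (by
      intro x hx
      obtain ⟨k, hk, rfl⟩ := h x (Multiset.mem_of_mem_erase hx)
      refine ⟨k, ?_, rfl⟩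
      by_contra hki
      obtain rfl : k = i := by omega
      exact absurd hx hnd.notMem_erase)
    have h2 : M.sum ≤ (M.erase (p ^ i)).sum + p ^ i := by
      by_cases hm : p ^ i ∈ M
      · have := congrArg Multiset.sum (Multiset.cons_erase hm)
        rw [Multiset.sum_cons] at this
        omega
      · rw [Multiset.erase_of_notMem hm]; omega
    rw [pow_succ]
    nlinarith [Nat.one_le_pow i p (by omega)]

end CfsgLib.AltPFree
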