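import Mathlib

/-!
Pairs whose product is not a `p`-element and which generate a non-solvable group.
-/

set_option autoImplicit false

namespace CfsgLib.AltPFree

open Subgroup
open scoped commutatorElement

variable {H K : Type*} [Group H] [Group K]

/-- `u * v` is not a `p`-element and `⟨u, v⟩` is not solvable. -/
def Good (p : ℕ) (u v : H) : Prop :=
  (¬ ∃ k, orderOf (u * v) = p ^ k) ∧ ¬ Group.IsSolvable ↥(closure ({u, v} : Set H))

theorem Good.of_map {p : ℕ} (hp : p.Prime) (φ : H →* K) {u v : H} (h : Good p (φ u) (φ v)) :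
    Good p u v := by
  refine ⟨fun ⟨k, hk⟩ => h.1 ?_, fun hs => h.2 ?_⟩
  · have h1 : orderOf (φ u * φ v) ∣ p ^ k := by
      rw [← map_mul, ← hk]; exact orderOf_map_dvd φ _
    obtain ⟨j, -, hj⟩ := (Nat.dvd_prime_pow hp).1 h1
    exact ⟨j, hj⟩
  · haveI := hs
    have he : closure ({φ u, φ v} : Set K) = (closure ({u, v} : Set H)).map φ := by
      rw [MonoidHom.map_closure, Set.image_pair]
    rw [he]
    exact Group.isSolvable_of_surjective (φ.subgroupMap_surjective _)

theorem Good.map_injective {p : ℕ} (φ : H →* K) (hφ : Function.Injective φ) {u v : H} (h : Good p u v) :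
    Good p (φ u) (φ v) := by
  refine ⟨fun ⟨k, hk⟩ => h.1 ⟨k, ?_⟩, fun hs => h.2 ?_⟩
  · rwa [← map_mul, orderOf_injective φ hφ] at hk
  · haveI := hs
    have he : (closure ({u, v} : Set H)).map φ = closure ({φ u, φ v} : Set K) := by
      rw [MonoidHom.map_closure, Set.image_pair]
    haveI : Group.IsSolvable ↥((closure ({u, v} : Set H)).map φ) := by rw [he]; infer_instance
    exact Group.isSolvable_of_isSolvable_injective
      (f := ((closure ({u, v} : Set H)).equivMapOfInjective φ hφ).toMonoidHom)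
      ((closure ({u, v} : Set H)).equivMapOfInjective φ hφ).injective

theorem Good.conj {p : ℕ} {u v : H} (h : Good p u v) (k : H) :
    Good p (k * u * k⁻¹) (k * v * k⁻¹) :=
  h.map_injective (MulAut.conj k).toMonoidHom (MulAut.conj k).injective

theorem Good.symm {p : ℕ} {u v : H} (h : Good p u v) : Good p v u := by
  refine ⟨fun ⟨k, hk⟩ => h.1 ⟨k, ?_⟩, ?_⟩
  · rw [← hk]
    rw [show v * u = (MulAut.conj v) (u * v) by simp [mul_assoc], MulEquiv.orderOf_eq]
  · rw [Set.pair_comm]; exact h.2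

/-- A non-identity element which is a commutator of two of its conjugates. -/
theorem not_isSolvable {G : Subgroup H} {x a b : H} (hx : x ∈ G) (ha : a ∈ G) (hb : b ∈ G) (hx1 : x ≠ 1)
    (h : x = ⁅a * x * a⁻¹, b * x⁻¹ * b⁻¹⁆) : ¬ Group.IsSolvable G := by
  refine _root_.not_isSolvable_of_mem_derivedSeries (g := (⟨x, hx⟩ : G))
    (fun e => hx1 (congrArg Subtype.val e)) fun n => ?_
  induction n with
  | zero => exact mem_top _
  | succ n ih =>
    have he : (⟨x, hx⟩ : G) = ⁅⟨a, ha⟩ * ⟨x, hx⟩ * (⟨a, ha⟩ : G)⁻¹, ⟨b, hb⟩ * (⟨x, hx⟩ : G)⁻¹ * (⟨b, hb⟩ : G)⁻¹⁆ :=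
      Subtype.ext (by simp only [commutatorElement_def] at h ⊢; exact h)
    rw [he]
    exact commutator_mem_commutator ((derivedSeries_normal _ _).conj_mem _ ih _)
      ((derivedSeries_normal _ _).conj_mem _ (inv_mem ih) _)

/-- Two adjacent three-cycles on five points generate a non-solvable group. -/
theorem not_isSolvable_five (φ : Equiv.Perm (Fin 5) →* H) (hφ : Function.Injective φ) {G : Subgroup H}
    (h1 : φ [0, 1, 2].formPerm ∈ G) (h2 : φ [2, 3, 4].formPerm ∈ G) : ¬ Group.IsSolvable G := by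
  refine not_isSolvable (x := φ [0, 1, 2].formPerm) (a := φ [2, 3, 4].formPerm)
    (b := (φ [0, 1, 2].formPerm)⁻¹ * (φ [2, 3, 4].formPerm)⁻¹) h1 h2 (mul_mem (inv_mem h1) (inv_mem h2))
    (fun e => by
      rw [← map_one φ] at e
      exact absurd (hφ e) (by decide +kernel)) ?_
  simp only [← map_inv, ← map_mul, ← map_commutatorElement]
  refine congrArg φ ?_
  decide +kernel

/-- `d * w` for a commuting involution `d` moving a fixed point of `w` is not a `p`-element. -/
theorem not_prime_pow {α : Type*} {p : ℕ} (hp : Odd p) {d w : Equiv.Perm α} (hd : d * d = 1)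
    (hc : Commute d w) {i : α} (hw : w i = i) (hdi : d i ≠ i) : ¬ ∃ k, orderOf (d * w) = p ^ k := by
  rintro ⟨k, hk⟩
  have h1 := pow_orderOf_eq_one (d * w)
  rw [hk, hc.mul_pow] at h1
  obtain ⟨m, hm⟩ := hp.pow (n := k)
  have h2 : d ^ p ^ k = d := by rw [hm, pow_succ, pow_mul, pow_two, hd, one_pow, one_mul]
  rw [h2] at h1
  have := congrArg (fun f : Equiv.Perm α => f i) h1
  simp only [Equiv.Perm.mul_apply, Equiv.Perm.one_apply, Equiv.Perm.pow_apply_eq_self_of_apply_eq_self hw] at this
  exact hdi this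

end CfsgLib.AltPFree
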