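import Cfsg.Agent.Lib.AltPFree.Basic

/-!
A long cycle as a product of cycles on consecutive blocks times the cycle through the block ends.
-/

set_option autoImplicit false

namespace CfsgLib.AltPFree

open Equiv Equiv.Perm List

variable {α β : Type*} [DecidableEq α] [DecidableEq β]

theorem formPerm_append_cons : ∀ (l : List α) (a : α) (r : List α),
    (l ++ a :: r).formPerm = (l ++ [a]).formPerm * (a :: r).formPerm
  | [], a, r => by simp
  | [x], a, r => by simp
  | x :: y :: l, a, r => by
    have := formPerm_append_cons (y :: l) a r
    simp only [List.cons_append, formPerm_cons_cons] at this ⊢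
    rw [this, mul_assoc]

/-- `v` has one cycle for each entry of `ls` and `W` lists their last points. -/
structure Factor [Fintype α] (ls : List ℕ) (L : List α) (v : Perm α) (W : List α) : Prop where
  eq : L.formPerm = v * W.formPerm
  type : v.cycleType = ((ls : Multiset ℕ).filter (2 ≤ ·))
  supp : ∀ x, x ∉ L → v x = x
  sub : ∀ x ∈ W, x ∈ L
  nodup : W.Nodup
  len : W.length = ls.length
  last : W.getLast? = L.getLast?

theorem formPerm_commute_of_disjoint [Fintype α] {l : List α} {v : Perm α}
    (h : ∀ x ∈ l, v x = x) : Commute l.formPerm v := by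
  refine (Perm.Disjoint.commute fun x => ?_)
  by_cases hx : x ∈ l
  · exact Or.inr (h x hx)
  · exact Or.inl (formPerm_apply_of_notMem hx)

theorem Factor.cons [Fintype α] {ls : List ℕ} {R W : List α} {v : Perm α} (h : Factor ls R v W)
    (b : List α) (e : α) (hnd : ((b ++ [e]) ++ R).Nodup) :
    Factor ((b.length + 1) :: ls) ((b ++ [e]) ++ R) ((b ++ [e]).formPerm * v) (e :: W) := by
  have hd := List.nodup_append.1 hnd
  have heR : e ∉ R := fun he => hd.2.2 e (by simp) e he rfl
  have hbv : ∀ x ∈ b ++ [e], v x = x := fun x hx => h.supp x fun hxR => hd.2.2 x hx x hxR rfl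
  have heW : e ∉ W := fun he => heR (h.sub e he)
  refine ⟨?_, ?_, ?_, ?_, List.nodup_cons.2 ⟨heW, h.nodup⟩, by simp [h.len], ?_⟩
  · rcases eq_or_ne W [] with hW | hW
    · subst hW
      have hR : R = [] := by
        have := h.last
        simp only [List.getLast?_nil] at this
        exact List.getLast?_eq_none_iff.1 this.symm
      subst hR
      have h1 := h.eq
      simp only [formPerm_nil, mul_one] at h1
      simp [← h1]
    · obtain ⟨W', m, rfl⟩ : ∃ W' m, W = W' ++ [m] :=
        ⟨W.dropLast, W.getLast hW, (List.dropLast_append_getLast hW).symm⟩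
      have hl : R.getLast? = some m := by rw [← h.last]; simp
      obtain ⟨h', R', rfl⟩ : ∃ h' R', R = h' :: R' :=
        List.exists_cons_of_ne_nil (by rintro rfl; simp at hl)
      have hm : (h' :: R').getLast (by simp) = m := by
        rw [List.getLast?_eq_getLast (by simp)] at hl
        exact Option.some_injective _ hl
      have hFm : (h' :: R').formPerm m = h' := by rw [← hm, formPerm_apply_getLast]
      have hFe : (h' :: R').formPerm e = e := formPerm_apply_of_notMem heR
      have h3 : (e :: (W' ++ [m])).formPerm = (W' ++ [m]).formPerm * Equiv.swap m e := by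
        rw [← formPerm_append_pair, formPerm_eq_of_isRotated (List.nodup_cons.2 ⟨heW, h.nodup⟩)]
        have := List.isRotated_append (l := [e]) (l' := W' ++ [m])
        simpa using this
      rw [List.append_assoc, List.singleton_append, formPerm_append_cons, formPerm_cons_cons, h3]
      have h4 : Equiv.swap e h' * (h' :: R').formPerm = (h' :: R').formPerm * Equiv.swap m e := by
        rw [Equiv.mul_swap_eq_swap_mul, hFm, hFe, Equiv.swap_comm]
      rw [h4, h.eq]
      simp only [mul_assoc]
  · have hdisj : Perm.Disjoint (b ++ [e]).formPerm v := fun x => by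
      by_cases hx : x ∈ b ++ [e]
      · exact Or.inr (hbv x hx)
      · exact Or.inl (formPerm_apply_of_notMem hx)
    rw [hdisj.cycleType_mul, h.type, ← Multiset.cons_coe]
    rcases eq_or_ne b [] with hb | hb
    · subst hb
      rw [show ([] ++ [e] : List α).formPerm = 1 by simp, cycleType_one, zero_add,
        Multiset.filter_cons_of_neg _ (by simp)]
    · have h2 : 2 ≤ b.length + 1 := by
        have := List.length_pos_iff.2 hb
        omega
      rw [(List.isCycle_formPerm hd.1 (by simpa using h2)).cycleType,
        List.support_formPerm_of_nodup _ hd.1 (fun x hx => by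
          have := congrArg List.length hx
          simp at this
          exact hb this),
        List.toFinset_card_of_nodup hd.1, Multiset.filter_cons_of_pos _ h2]
      simp
  · intro x hx
    rw [List.mem_append, not_or] at hx
    rw [Perm.mul_apply, h.supp x hx.2, formPerm_apply_of_notMem hx.1]
  · intro x hx
    rcases List.mem_cons.1 hx with rfl | hx
    · simp
    · exact List.mem_append_right _ (h.sub x hx)
  · rcases eq_or_ne R [] with hR | hR
    · subst hR
      have hW : W = [] := List.eq_nil_iff_forall_not_mem.2 fun x hx => by simpa using h.sub x hx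
      subst hW
      simp
    · have hW : W ≠ [] := fun hW => by
        have := h.last
        rw [hW, List.getLast?_nil] at this
        exact hR (List.getLast?_eq_none_iff.1 this.symm)
      rw [List.getLast?_append_of_ne_nil _ hR, ← h.last]
      obtain ⟨y, Y, rfl⟩ := List.exists_cons_of_ne_nil hW
      simp [List.getLast?_cons_cons]

theorem exists_factor [Fintype α] : ∀ (ls : List ℕ), (∀ l ∈ ls, 0 < l) → ∀ L : List α, L.Nodup →
    L.length = ls.sum → ∃ v W, Factor ls L v W
  | [], _, L, _, hlen => by
    rw [List.sum_nil] at hlen
    obtain rfl := List.eq_nil_of_length_eq_zero hlen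
    exact ⟨1, [], ⟨by simp, by simp, fun _ _ => rfl, by simp, List.nodup_nil, rfl, rfl⟩⟩
  | l :: ls, hpos, L, hnd, hlen => by
    have hl := hpos l (by simp)
    rw [List.sum_cons] at hlen
    obtain ⟨v, W, hvW⟩ := exists_factor ls (fun x hx => hpos x (List.mem_cons_of_mem _ hx)) (L.drop l)
      hnd.drop (by rw [List.length_drop]; omega)
    have hne : L.take l ≠ [] := by
      intro h0
      have := congrArg List.length h0
      rw [List.length_take, List.length_nil] at this
      omega
    have hsplit : ((L.take l).dropLast ++ [(L.take l).getLast hne]) ++ L.drop l = L := by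
      rw [List.dropLast_append_getLast, List.take_append_drop]
    have h := hvW.cons (L.take l).dropLast ((L.take l).getLast hne) (by rw [hsplit]; exact hnd)
    rw [hsplit, List.length_dropLast, List.length_take] at h
    rw [show min l L.length - 1 + 1 = l by omega] at h
    exact ⟨_, _, h⟩

/-- A hom compatible with transpositions maps list cycles to list cycles. -/
theorem map_formPerm (φ : Perm α →* Perm β) (f : α → β)
    (hφ : ∀ x y, φ (Equiv.swap x y) = Equiv.swap (f x) (f y)) :
    ∀ l : List α, φ l.formPerm = (l.map f).formPerm
  | [] => by simp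
  | [x] => by simp
  | x :: y :: l => by
    rw [formPerm_cons_cons, map_mul, hφ, map_formPerm φ f hφ (y :: l)]
    simp [formPerm_cons_cons]

theorem viaEmbedding_swap (f : α ↪ β) (x y : α) :
    Equiv.Perm.viaEmbeddingHom f (Equiv.swap x y) = Equiv.swap (f x) (f y) := by
  refine Equiv.ext fun z => ?_
  rw [Equiv.Perm.viaEmbeddingHom_apply]
  by_cases hz : z ∈ Set.range f
  · obtain ⟨w, rfl⟩ := hz
    rw [Equiv.Perm.viaEmbedding_apply, f.injective.swap_apply]
  · rw [Equiv.Perm.viaEmbedding_apply_of_notMem _ _ _ hz, Equiv.swap_apply_of_ne_of_ne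
      (fun e => hz ⟨x, e.symm⟩) (fun e => hz ⟨y, e.symm⟩)]

theorem viaEmbedding_formPerm (f : α ↪ β) (l : List α) :
    Equiv.Perm.viaEmbeddingHom f l.formPerm = (l.map f).formPerm :=
  map_formPerm _ f (viaEmbedding_swap f) l

theorem conj_formPerm (π : Perm α) (l : List α) : π * l.formPerm * π⁻¹ = (l.map π).formPerm :=
  map_formPerm (MulAut.conj π).toMonoidHom π (fun x y => (Equiv.swap_apply_apply π x y).symm) l

end CfsgLib.AltPFree
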