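import Cfsg.Agent.Lib.AltPFree.Assembly

/-!
Non-trivial `p`-elements of an alternating group have a free pair of conjugates.
-/

set_option autoImplicit false

namespace CfsgLib.AltPFree

open Equiv Equiv.Perm List Subgroup

variable {n p : ℕ}

theorem cycleType_pow (hp : p.Prime) {u : Perm (Fin n)} (hu : ∃ k, orderOf u = p ^ k) :
    ∀ x ∈ u.cycleType, ∃ i, 0 < i ∧ x = p ^ i := by
  intro x hx
  obtain ⟨k, hk⟩ := hu
  have h1 := dvd_of_mem_cycleType hx
  rw [hk] at h1
  obtain ⟨i, -, rfl⟩ := (Nat.dvd_prime_pow hp).1 h1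
  refine ⟨i, Nat.pos_of_ne_zero fun h0 => ?_, rfl⟩
  have := two_le_of_mem_cycleType hx
  rw [h0, pow_zero] at this
  omega

theorem eq_replicate_of_all_three {u : Perm (Fin n)} (h : ∀ x ∈ u.cycleType, x = 3) :
    u.cycleType = Multiset.replicate u.cycleType.card 3 := Multiset.eq_replicate_card.2 h

theorem sum_le (u : Perm (Fin n)) : u.cycleType.sum ≤ n := by
  rw [sum_cycleType]; exact (Finset.card_le_univ _).trans_eq (Fintype.card_fin n)

theorem odd_centralizer_of_fixed {w : Perm (Fin n)} (h : w.cycleType.sum + 2 ≤ n) :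
    ¬ Subgroup.centralizer {w} ≤ alternatingGroup (Fin n) := fun hle => by
  have := (Equiv.Perm.centralizer_le_alternating_iff.1 hle).2.1
  rw [Fintype.card_fin] at this
  omega

theorem result_all_threes (hn : 5 ≤ n) {u w : Perm (Fin n)} (hu : u ≠ 1) (hw : w ≠ 1)
    (hu3 : ∀ x ∈ u.cycleType, x = 3) (hw3 : ∀ x ∈ w.cycleType, x = 3) : Result 3 u w := by
  have aux : ∀ {u w : Perm (Fin n)}, u ≠ 1 → w ≠ 1 → (∀ x ∈ u.cycleType, x = 3) →
      (∀ x ∈ w.cycleType, x = 3) → n < u.cycleType.sum + 2 → Result 3 u w := by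
    intro u w hu hw hu3 hw3 hfix
    have hus := sum_le u
    have hws := sum_le w
    have h1 := eq_replicate_of_all_three hu3
    have h2 := eq_replicate_of_all_three hw3
    set r := u.cycleType.card
    set s := w.cycleType.card with hs'
    have hs : s ≠ 0 := fun h => hw (cycleType_eq_zero.1 (Multiset.card_eq_zero.1 h))
    rw [h1, Multiset.sum_replicate, smul_eq_mul] at hfix hus
    rw [h2, Multiset.sum_replicate, smul_eq_mul] at hws
    have hu' : u.cycleType = {3, 3} + Multiset.replicate (r - 2) 3 := by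
      rw [h1]
      conv_lhs => rw [show r = 2 + (r - 2) by omega, Multiset.replicate_add]
      rfl
    by_cases hs1 : s = 1
    · refine result_of_pair (m := 6) (U := {3, 3}) (V := {3}) (V' := 0) (by norm_num) (by omega)
        hu' (by rw [Multiset.sum_replicate, smul_eq_mul]; omega) (by rw [h2, hs1]; rfl) (by simp)
        pair_six_one (odd_centralizer_of_fixed ?_)
      rw [h2, hs1]
      simp
      omega
    · refine result_of_pair (m := 6) (U := {3, 3}) (V := {3, 3}) (V' := Multiset.replicate (s - 2) 3)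
        (by norm_num) (by omega) hu' (by rw [Multiset.sum_replicate, smul_eq_mul]; omega) ?_
        (by rw [Multiset.sum_replicate, smul_eq_mul]; omega) pair_six_two (fun hle => ?_)
      · rw [h2]
        conv_lhs => rw [show s = 2 + (s - 2) by omega, Multiset.replicate_add]
        rfl
      · have := (Equiv.Perm.centralizer_le_alternating_iff.1 hle).2.2 3
        rw [h2, Multiset.count_replicate_self] at this
        omega
  by_cases hfu : n < u.cycleType.sum + 2
  · exact aux hu hw hu3 hw3 hfu
  by_cases hfw : n < w.cycleType.sum + 2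
  · exact (aux hw hu hw3 hu3 hfw).symm
  have h1 := eq_replicate_of_all_three hu3
  have h2 := eq_replicate_of_all_three hw3
  set r := u.cycleType.card
  set s := w.cycleType.card
  have hr : r ≠ 0 := fun h => hu (cycleType_eq_zero.1 (Multiset.card_eq_zero.1 h))
  have hs : s ≠ 0 := fun h => hw (cycleType_eq_zero.1 (Multiset.card_eq_zero.1 h))
  rw [h1, Multiset.sum_replicate, smul_eq_mul] at hfu
  rw [h2, Multiset.sum_replicate, smul_eq_mul] at hfw
  refine result_of_pair (m := 5) (U := {3}) (V := {3}) (U' := Multiset.replicate (r - 1) 3)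
    (V' := Multiset.replicate (s - 1) 3) (by norm_num) (by omega) ?_
    (by rw [Multiset.sum_replicate, smul_eq_mul]; omega) ?_
    (by rw [Multiset.sum_replicate, smul_eq_mul]; omega) pair_five (odd_centralizer_of_fixed ?_)
  · rw [h1]; conv_lhs => rw [show r = 1 + (r - 1) by omega, Multiset.replicate_add]
    rfl
  · rw [h2]; conv_lhs => rw [show s = 1 + (s - 1) by omega, Multiset.replicate_add]
    rfl
  · rw [h2, Multiset.sum_replicate, smul_eq_mul]; omega

theorem result_max (hp : p.Prime) (hp3 : 3 ≤ p) {u w : Perm (Fin n)} {A : ℕ} (hA5 : 5 ≤ A)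
    (hu : A ∈ u.cycleType) (hAp : ∃ i, A = p ^ i) (hw1 : w ≠ 1)
    (hwpow : ∀ x ∈ w.cycleType, ∃ i, 0 < i ∧ x = p ^ i) (hmax : ∀ x ∈ w.cycleType, x ≤ A) :
    Result p u w := by
  haveI : NeZero A := ⟨by omega⟩
  have hodd : Odd p := hp.odd_of_ne_two (by omega)
  have hus := sum_le u
  have hws := sum_le w
  have hAn : A ≤ n := (Multiset.le_sum_of_mem hu).trans hus
  obtain ⟨iA, hiA⟩ := hAp
  have hAodd : Odd A := hiA ▸ hodd.pow
  have hu' : u.cycleType = {A} + u.cycleType.erase A := by
    rw [Multiset.singleton_add, Multiset.cons_erase hu]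
  have hU : (u.cycleType.erase A).sum ≤ n - A := by
    have := congrArg Multiset.sum (Multiset.cons_erase hu)
    rw [Multiset.sum_cons] at this
    omega
  by_cases hc : Subgroup.centralizer {w} ≤ alternatingGroup (Fin n)
  · -- `w` then also has a cycle of length `A`
    obtain ⟨-, hfix, hcount⟩ := Equiv.Perm.centralizer_le_alternating_iff.1 hc
    rw [Fintype.card_fin] at hfix
    have hAw : A ∈ w.cycleType := by
      by_contra hA
      have h1 := two_mul_sum_powers_le hp3 iA w.cycleType (Multiset.nodup_iff_count_le_one.2 hcount)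
        (fun x hx => by
          obtain ⟨k, -, rfl⟩ := hwpow x hx
          refine ⟨k, ?_, rfl⟩
          have h2 : p ^ k < p ^ iA := hiA ▸ lt_of_le_of_ne (hmax _ hx) (fun e => hA (e ▸ hx))
          exact (Nat.pow_lt_pow_iff_right (by omega)).1 h2)
      rw [← hiA] at h1
      obtain ⟨x, hx⟩ := Multiset.exists_mem_of_ne_zero (fun h => hw1 (cycleType_eq_zero.1 h))
      obtain ⟨k, hk, rfl⟩ := hwpow x hx
      have h2 := Multiset.le_sum_of_mem hx
      have h3 : 3 ≤ p ^ k := hp3.trans (Nat.le_self_pow hk.ne' p)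
      omega
    have hP : Pair₂ p A {A} {A} := by
      by_cases h7 : 7 ≤ A
      · exact pair₂_of_core (by omega) (core_two_classes hodd hAodd h7)
      · obtain rfl : A = 5 := by
          obtain ⟨k, hk⟩ := hAodd; omega
        refine pair₂_five ?_
        have h5 : p ∣ 5 := hiA ▸ dvd_pow_self p (by rintro rfl; norm_num at hiA)
        exact (Nat.prime_dvd_prime_iff_eq hp Nat.prime_five).1 h5
    refine result_of_pair₂ hp hAn hu' hU (V' := w.cycleType.erase A)
      (by rw [Multiset.singleton_add, Multiset.cons_erase hAw]) ?_ hP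
    have := congrArg Multiset.sum (Multiset.cons_erase hAw)
    rw [Multiset.sum_cons] at this
    omega
  obtain ⟨l, hl, hlmax⟩ : ∃ l ∈ w.cycleType, ∀ y ∈ w.cycleType, y ≤ l := by
    obtain ⟨x, hx⟩ := Multiset.exists_mem_of_ne_zero (fun h => hw1 (cycleType_eq_zero.1 h))
    obtain ⟨l, hl, hl'⟩ := w.cycleType.toFinset.exists_max_image id ⟨x, Multiset.mem_toFinset.2 hx⟩
    exact ⟨l, Multiset.mem_toFinset.1 hl, fun y hy => hl' y (Multiset.mem_toFinset.2 hy)⟩
  obtain ⟨il, hil, hlp⟩ := hwpow l hl
  set M : Multiset ℕ := w.cycleType + Multiset.replicate (n - w.cycleType.sum) 1 with hM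
  have hMsum : M.sum = n := by
    rw [hM, Multiset.sum_add, Multiset.sum_replicate, smul_eq_mul, mul_one]; omega
  have hMpow : ∀ x ∈ M, ∃ i, x = p ^ i ∧ x ≤ l := by
    intro x hx
    rcases Multiset.mem_add.1 hx with hx | hx
    · obtain ⟨i, -, rfl⟩ := hwpow x hx
      exact ⟨i, rfl, hlmax _ hx⟩
    · rw [Multiset.eq_of_mem_replicate hx]
      exact ⟨0, by simp, by rw [hlp]; exact Nat.one_le_pow _ _ (by omega)⟩
  have hlA : l ∣ A := by
    rw [hlp, hiA]
    exact pow_dvd_pow p ((Nat.pow_le_pow_iff_right (by omega)).1 (hlp ▸ hiA ▸ hmax l hl))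
  have hdvdl : ∀ x ∈ M, x ∣ l := by
    intro x hx
    obtain ⟨i, rfl, hle⟩ := hMpow x hx
    rw [hlp] at hle ⊢
    exact pow_dvd_pow p ((Nat.pow_le_pow_iff_right (by omega)).1 hle)
  have hlM : l ∈ M := Multiset.mem_add.2 (Or.inl hl)
  have herase : l + (M.erase l).sum = n := by
    rw [← Multiset.sum_cons, Multiset.cons_erase hlM, hMsum]
  obtain ⟨N, hN, hNs⟩ := mem_select p (M.erase l) (A - l)
    (fun x hx => by obtain ⟨i, hi, -⟩ := hMpow x (Multiset.mem_of_mem_erase hx); exact ⟨i, hi⟩)
    (fun x hx => Nat.dvd_sub ((hdvdl x (Multiset.mem_of_mem_erase hx)).trans hlA)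
      (hdvdl x (Multiset.mem_of_mem_erase hx)))
    (by omega)
  have hlA' : l ≤ A := hmax l hl
  have hNmem : ∀ x ∈ N, x ∈ M := fun x hx => Multiset.mem_of_mem_erase (Multiset.mem_of_le hN hx)
  have hNodd : ∀ x ∈ N, Odd x := fun x hx => by
    obtain ⟨i, rfl, -⟩ := hMpow x (hNmem x hx)
    exact hodd.pow
  have hlodd : Odd l := hlp ▸ hodd.pow
  have hl3 : 3 ≤ l := hlp ▸ hp3.trans (Nat.le_self_pow hil.ne' p)
  have hP : Pair p A {A} ((l ::ₘ N).filter (2 ≤ ·)) := by
    by_cases hl5 : 5 ≤ l
    · have h := pair_of_core (p := p) (by omega) (core_large (A := A) hodd hAodd hl5 hlodd N.toList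
        (fun x hx => hNodd x (Multiset.mem_toList.1 hx)) (by rw [Multiset.sum_toList, hNs]; omega))
      rwa [← Multiset.cons_coe, Multiset.coe_toList] at h
    · have hl3' : l = 3 := by obtain ⟨k, hk⟩ := hlodd; omega
      subst hl3'
      have hp' : p = 3 := (Nat.prime_dvd_prime_iff_eq hp Nat.prime_three).1 (hlp ▸ dvd_pow_self p hil.ne')
      have hN13 : ∀ x ∈ N, x = 3 ∨ x = 1 := fun x hx => by
        obtain ⟨i, hi, hle⟩ := hMpow x (hNmem x hx)
        have h1 := hdvdl x (hNmem x hx)
        exact ((Nat.dvd_prime Nat.prime_three).1 h1).symm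
      by_cases h3N : 3 ∈ N
      · have hA9 : A = 9 ∨ 15 ≤ A := by
          subst hp'
          rcases Nat.lt_or_ge iA 2 with h | h
          · interval_cases iA <;> norm_num at hiA <;> omega
          · rcases h.eq_or_lt with rfl | h
            · left; norm_num at hiA; omega
            · right
              have : 3 ^ 3 ≤ 3 ^ iA := Nat.pow_le_pow_right (by norm_num) h
              omega
        have hcons := Multiset.cons_erase h3N
        have hs3 : 3 + (N.erase 3).sum = A - 3 := by rw [← Multiset.sum_cons, hcons, hNs]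
        rcases hA9 with rfl | h15
        · subst hp'
          by_cases h33 : 3 ∈ N.erase 3
          · have hs0 : (3 : ℕ) + ((N.erase 3).erase 3).sum = 3 := by
              rw [← Multiset.sum_cons, Multiset.cons_erase h33]; omega
            have hz : (N.erase 3).erase 3 = 0 := by
              refine Multiset.eq_zero_of_forall_notMem fun x hx => ?_
              have h1 := Multiset.le_sum_of_mem hx
              rcases hN13 x (Multiset.mem_of_mem_erase (Multiset.mem_of_mem_erase hx)) with rfl | rfl <;> omega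
            rw [← hcons, ← Multiset.cons_erase h33, hz]
            exact pair_nine_three
          · have hf : (N.erase 3).filter (2 ≤ ·) = 0 := Multiset.filter_eq_nil.2 fun x hx => by
              rcases hN13 x (Multiset.mem_of_mem_erase hx) with rfl | rfl
              · exact absurd hx h33
              · norm_num
            rw [← hcons, Multiset.filter_cons_of_pos _ (by norm_num), Multiset.filter_cons_of_pos _ (by norm_num), hf]
            exact pair_nine_two
        · have h := pair_of_core (p := p) (by omega) (core_threes (A := A) hodd hAodd h15 (N.erase 3).toList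
            (fun x hx => hNodd x (Multiset.mem_of_mem_erase (Multiset.mem_toList.1 hx)))
            (by rw [Multiset.sum_toList]; omega))
          rwa [← Multiset.cons_coe, ← Multiset.cons_coe, Multiset.coe_toList, hcons] at h
      · have hf : N.filter (2 ≤ ·) = 0 := Multiset.filter_eq_nil.2 fun x hx => by
          rcases hN13 x hx with rfl | rfl
          · exact absurd hx h3N
          · norm_num
        rw [Multiset.filter_cons_of_pos _ (by norm_num), hf]
        exact pair_of_core (by omega) (core_one_three (A := A) hp hA5 hp' hlA)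
  have hle : l ::ₘ N ≤ M := by
    rw [← Multiset.cons_erase hlM]; exact Multiset.cons_le_cons l hN
  have hwsplit : w.cycleType = (l ::ₘ N).filter (2 ≤ ·) + (M - l ::ₘ N).filter (2 ≤ ·) := by
    rw [← Multiset.filter_add, add_tsub_cancel_of_le hle, hM, Multiset.filter_add]
    have h1 : w.cycleType.filter (2 ≤ ·) = w.cycleType :=
      Multiset.filter_eq_self.2 fun x hx => two_le_of_mem_cycleType hx
    have h2 : (Multiset.replicate (n - w.cycleType.sum) 1).filter (2 ≤ ·) = 0 :=
      Multiset.filter_eq_nil.2 fun x hx => by rw [Multiset.eq_of_mem_replicate hx]; norm_num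
    rw [h1, h2, add_zero]
  refine result_of_pair hp hAn hu' hU hwsplit ?_ hP hc
  have h1 : ((M - l ::ₘ N).filter (2 ≤ ·)).sum ≤ (M - l ::ₘ N).sum := by
    conv_rhs => rw [← Multiset.filter_add_not (fun x => 2 ≤ x) (M - l ::ₘ N)]
    rw [Multiset.sum_add]
    omega
  have h2 : (l ::ₘ N).sum + (M - l ::ₘ N).sum = n := by
    rw [← Multiset.sum_add, add_tsub_cancel_of_le hle, hMsum]
  rw [Multiset.sum_cons, hNs] at h2
  omega

theorem result_all (hn : 5 ≤ n) (hp : p.Prime) (hp3 : 3 ≤ p) {u w : Perm (Fin n)} (hu : u ≠ 1) (hw : w ≠ 1)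
    (hu' : ∃ k, orderOf u = p ^ k) (hw' : ∃ k, orderOf w = p ^ k) : Result p u w := by
  have hup := cycleType_pow hp hu'
  have hwp := cycleType_pow hp hw'
  obtain ⟨x, hx⟩ := Multiset.exists_mem_of_ne_zero (s := u.cycleType) (fun h => hu (cycleType_eq_zero.1 h))
  obtain ⟨A, hA, hmax⟩ := (u.cycleType + w.cycleType).toFinset.exists_max_image id
    ⟨x, Multiset.mem_toFinset.2 (Multiset.mem_add.2 (Or.inl hx))⟩
  have hmax' : ∀ y, y ∈ u.cycleType ∨ y ∈ w.cycleType → y ≤ A := fun y hy =>
    hmax y (Multiset.mem_toFinset.2 (Multiset.mem_add.2 hy))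
  rw [Multiset.mem_toFinset, Multiset.mem_add] at hA
  have hge3 : ∀ y, y ∈ u.cycleType ∨ y ∈ w.cycleType → 3 ≤ y ∧ Odd y := by
    intro y hy
    obtain ⟨i, hi, rfl⟩ := hy.elim (hup y) (hwp y)
    exact ⟨hp3.trans (Nat.le_self_pow hi.ne' p), (hp.odd_of_ne_two (by omega)).pow⟩
  by_cases h5 : 5 ≤ A
  · rcases hA with hA | hA
    · obtain ⟨i, -, hi⟩ := hup A hA
      exact result_max hp hp3 h5 hA ⟨i, hi⟩ hw hwp (fun y hy => hmax' y (Or.inr hy))
    · obtain ⟨i, -, hi⟩ := hwp A hA
      exact (result_max hp hp3 h5 hA ⟨i, hi⟩ hu hup (fun y hy => hmax' y (Or.inl hy))).symm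
  · have h3 : ∀ y, y ∈ u.cycleType ∨ y ∈ w.cycleType → y = 3 := fun y hy => by
      obtain ⟨h1, k, hk⟩ := hge3 y hy
      have := hmax' y hy
      omega
    obtain ⟨i, hi, hx3⟩ := hup x hx
    have hp' : p = 3 := (Nat.prime_dvd_prime_iff_eq hp Nat.prime_three).1
      (by rw [← h3 x (Or.inl hx), hx3]; exact dvd_pow_self p hi.ne')
    subst hp'
    exact result_all_threes hn hu hw (fun y hy => h3 y (Or.inl hy)) (fun y hy => h3 y (Or.inr hy))

end CfsgLib.AltPFree
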