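import Cfsg.Agent.Lib.AltPFree.Witness2

/-!
Pairs on a fixed number of points with prescribed cycle shapes, small witnesses.
-/

set_option autoImplicit false

namespace CfsgLib.AltPFree

open Equiv Equiv.Perm List Subgroup

/-- A pair with given cycle shapes on `m` points. -/
def Pair (p m : ℕ) (U V : Multiset ℕ) : Prop :=
  ∃ a b : Perm (Fin m), a.cycleType = U ∧ b.cycleType = V ∧ Good p a b

/-- Such a pair in both classes of the alternating group. -/
def Pair₂ (p m : ℕ) (U V : Multiset ℕ) : Prop :=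
  ∃ a b π : Perm (Fin m), a.cycleType = U ∧ b.cycleType = V ∧ Perm.sign π = -1 ∧ Good p a b ∧
    Good p a (π * b * π⁻¹)

theorem cycleType_formPerm_list {α : Type*} [Fintype α] [DecidableEq α] (l : List α) (h : l.Nodup)
    (h2 : 2 ≤ l.length) : l.formPerm.cycleType = {l.length} := by
  have := cycleType_prod [l] (by simpa using h) (by simpa using h2)
  simpa using this

theorem cycleType_rot {A : ℕ} [NeZero A] (hA : 2 ≤ A) : (rot A).cycleType = {A} := by
  rw [← formPerm_run, cycleType_formPerm_list _ (run_nodup (by omega)) (by simp [run, hA])]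
  simp [run]

theorem pair_of_core {p A : ℕ} [NeZero A] (hA : 2 ≤ A) {V : Multiset ℕ}
    (h : ∃ b : Perm (ZMod A), b.cycleType = V ∧ Good p (rot A) b) : Pair p A {A} V := by
  obtain ⟨b, hb, hg⟩ := h
  obtain ⟨k, rfl⟩ : ∃ k, A = k + 1 := ⟨A - 1, by omega⟩
  exact ⟨rot (k + 1), b, cycleType_rot hA, hb, hg⟩

theorem pair₂_of_core {p A : ℕ} [NeZero A] (hA : 2 ≤ A) {V : Multiset ℕ}
    (h : ∃ b π : Perm (ZMod A), b.cycleType = V ∧ Perm.sign π = -1 ∧ Good p (rot A) b ∧
      Good p (rot A) (π * b * π⁻¹)) : Pair₂ p A {A} V := by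
  obtain ⟨b, π, hb, hπ, hg, hg'⟩ := h
  obtain ⟨k, rfl⟩ : ∃ k, A = k + 1 := ⟨A - 1, by omega⟩
  exact ⟨rot (k + 1), b, π, cycleType_rot hA, hb, hπ, hg, hg'⟩

theorem pair₂_five {p : ℕ} (hp : p = 5) : Pair₂ p 5 {5} {5} := by
  subst hp
  have hπ : Perm.sign (([2, 3, 4] : List (Fin 5)).formPerm * (Equiv.swap 3 4)⁻¹) = -1 := by decide +kernel
  have mem₁ : ∀ a b : Perm (Fin 5), a ∈ closure ({a, b} : Set (Perm (Fin 5))) := fun a b => subset_closure (by simp)
  have mem₂ : ∀ a b : Perm (Fin 5), b ∈ closure ({a, b} : Set (Perm (Fin 5))) := fun a b => subset_closure (by simp)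
  refine ⟨[0, 1, 2, 3, 4].formPerm, [0, 3, 4, 2, 1].formPerm, _,
    cycleType_formPerm_list _ (by decide) (by decide), cycleType_formPerm_list _ (by decide) (by decide),
    hπ, ?_, ?_⟩
  · refine good_of_words (N := 3) (by norm_num) ?_ ?_ (mul_mem (mem₁ _ _) (mem₂ _ _)) (mem₂ _ _) (mem₁ _ _) ?_ ?_ <;>
      decide +kernel
  · refine good_of_words (N := 3) (by norm_num) ?_ ?_ (mem₁ _ _) (mul_mem (mem₁ _ _) (mem₂ _ _)) (mem₂ _ _) ?_ ?_ <;>
      decide +kernel

theorem pair_five : Pair 3 5 {3} {3} := by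
  refine ⟨[0, 1, 2].formPerm, [2, 3, 4].formPerm, cycleType_formPerm_list _ (by decide) (by decide),
    cycleType_formPerm_list _ (by decide) (by decide), ?_, ?_⟩
  · refine not_prime_pow_of_pow_eq_one (N := 5) (by norm_num) ?_ ?_ <;> decide +kernel
  · exact not_isSolvable_five (MonoidHom.id _) (fun _ _ h => h) (subset_closure (by simp)) (subset_closure (by simp))

theorem cycleType_two {m : ℕ} (l₁ l₂ : List (Fin m)) (h : (l₁ ++ l₂).Nodup) (h1 : l₁.length = 3)
    (h2 : l₂.length = 3) : (l₁.formPerm * l₂.formPerm).cycleType = {3, 3} := by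
  have := cycleType_prod [l₁, l₂] (by simpa using h) (by simp [h1, h2])
  simp [h1, h2] at this
  exact this

theorem pair_six_two : Pair 3 6 {3, 3} {3, 3} := by
  have mem₁ : ∀ a b : Perm (Fin 6), a ∈ closure ({a, b} : Set (Perm (Fin 6))) := fun a b => subset_closure (by simp)
  have mem₂ : ∀ a b : Perm (Fin 6), b ∈ closure ({a, b} : Set (Perm (Fin 6))) := fun a b => subset_closure (by simp)
  refine ⟨[0, 1, 2].formPerm * [3, 4, 5].formPerm, [0, 1, 3].formPerm * [2, 5, 4].formPerm,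
    cycleType_two _ _ (by decide) rfl rfl, cycleType_two _ _ (by decide) rfl rfl, ?_⟩
  refine good_of_words (N := 5) (by norm_num) ?_ ?_ (mem₁ _ _) (mul_mem (mem₁ _ _) (mem₂ _ _))
    (mul_mem (mem₂ _ _) (mem₂ _ _)) ?_ ?_ <;> decide +kernel

theorem pair_six_one : Pair 3 6 {3, 3} {3} := by
  have mem₁ : ∀ a b : Perm (Fin 6), a ∈ closure ({a, b} : Set (Perm (Fin 6))) := fun a b => subset_closure (by simp)
  have mem₂ : ∀ a b : Perm (Fin 6), b ∈ closure ({a, b} : Set (Perm (Fin 6))) := fun a b => subset_closure (by simp)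
  refine ⟨[0, 1, 2].formPerm * [3, 4, 5].formPerm, [0, 1, 3].formPerm,
    cycleType_two _ _ (by decide) rfl rfl, cycleType_formPerm_list _ (by decide) (by decide), ?_⟩
  refine good_of_words (N := 4) (by norm_num) ?_ ?_
    (mul_mem (mul_mem (mem₁ _ _) (mem₂ _ _)) (mem₁ _ _)) (mul_mem (mem₂ _ _) (mem₂ _ _)) (mem₂ _ _) ?_ ?_ <;>
    decide +kernel

theorem pair_nine_two : Pair 3 9 {9} {3, 3} := by
  have mem₁ : ∀ a b : Perm (Fin 9), a ∈ closure ({a, b} : Set (Perm (Fin 9))) := fun a b => subset_closure (by simp)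
  have mem₂ : ∀ a b : Perm (Fin 9), b ∈ closure ({a, b} : Set (Perm (Fin 9))) := fun a b => subset_closure (by simp)
  refine ⟨[0, 1, 2, 3, 4, 5, 6, 7, 8].formPerm, [0, 1, 2].formPerm * [3, 5, 4].formPerm,
    cycleType_formPerm_list _ (by decide) (by decide), cycleType_two _ _ (by decide) rfl rfl, ?_⟩
  refine good_of_words (N := 7) (by norm_num) ?_ ?_
    (mul_mem (mul_mem (mem₁ _ _) (mem₁ _ _)) (mem₁ _ _)) (mem₂ _ _) (mul_mem (mem₁ _ _) (mem₂ _ _)) ?_ ?_ <;>
    decide +kernel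

theorem pair_nine_three : Pair 3 9 {9} {3, 3, 3} := by
  have mem₁ : ∀ a b : Perm (Fin 9), a ∈ closure ({a, b} : Set (Perm (Fin 9))) := fun a b => subset_closure (by simp)
  have mem₂ : ∀ a b : Perm (Fin 9), b ∈ closure ({a, b} : Set (Perm (Fin 9))) := fun a b => subset_closure (by simp)
  refine ⟨[0, 1, 2, 3, 4, 5, 6, 7, 8].formPerm, [0, 1, 2].formPerm * [3, 7, 6].formPerm * [4, 8, 5].formPerm,
    cycleType_formPerm_list _ (by decide) (by decide), ?_, ?_⟩
  · have := cycleType_prod [[(0 : Fin 9), 1, 2], [3, 7, 6], [4, 8, 5]] (by decide) (by simp)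
    simp only [List.map_cons, List.map_nil, List.prod_cons, List.prod_nil, mul_one, ← mul_assoc] at this
    exact this
  refine good_of_words (N := 7) (by norm_num) ?_ ?_
    (mem₁ _ _) (mul_mem (mul_mem (mem₂ _ _) (mem₁ _ _)) (mem₂ _ _))
    (mul_mem (mul_mem (mul_mem (mem₁ _ _) (mem₂ _ _)) (mem₁ _ _)) (mem₂ _ _)) ?_ ?_ <;>
    decide +kernel

end CfsgLib.AltPFree
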