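import Cfsg.Agent.Lib.AltPFree.Blocks

/-!
The witnesses: a cycle of length `A` against a given cycle shape on `A` points.
-/

set_option autoImplicit false

namespace CfsgLib.AltPFree

open Equiv Equiv.Perm List Subgroup

variable {α : Type*} [DecidableEq α]

theorem not_isSolvable_shift (f : Fin 5 ↪ α) {G : Subgroup (Perm α)} {g : Perm α} (hg : g ∈ G)
    (h0 : g (f 0) = f 2) (h1 : g (f 1) = f 3) (h2 : g (f 2) = f 4)
    (hc : [f 0, f 1, f 2].formPerm ∈ G) : ¬ Group.IsSolvable G := by
  refine not_isSolvable_five (Perm.viaEmbeddingHom f) (Perm.viaEmbeddingHom_injective f) ?_ ?_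
  · rw [viaEmbedding_formPerm]; exact hc
  · rw [viaEmbedding_formPerm]
    have : g * [f 0, f 1, f 2].formPerm * g⁻¹ ∈ G := mul_mem (mul_mem hg hc) (inv_mem hg)
    rw [conj_formPerm, List.map_cons, List.map_cons, List.map_cons, List.map_nil, h0, h1, h2] at this
    exact this

theorem not_prime_pow_of_pow_eq_one {H : Type*} [Group H] {p N : ℕ} (hN : Nat.Coprime p N) {x : H}
    (h1 : x ^ N = 1) (hx : x ≠ 1) : ¬ ∃ k, orderOf x = p ^ k := by
  rintro ⟨k, hk⟩
  have h2 := orderOf_dvd_of_pow_eq_one h1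
  rw [hk] at h2
  have := Nat.eq_one_of_dvd_coprimes (hN.pow_left k) dvd_rfl h2
  rw [this] at hk
  exact hx (orderOf_eq_one_iff.1 hk)

theorem good_of_words {H : Type*} [Group H] {p N : ℕ} (hN : Nat.Coprime p N) {a b x g₁ g₂ : H}
    (h1 : (a * b) ^ N = 1) (hne : a * b ≠ 1) (hx : x ∈ closure ({a, b} : Set H))
    (hg₁ : g₁ ∈ closure ({a, b} : Set H)) (hg₂ : g₂ ∈ closure ({a, b} : Set H)) (hx1 : x ≠ 1)
    (hw : x = g₁ * x * g₁⁻¹ * (g₂ * x⁻¹ * g₂⁻¹) * (g₁ * x * g₁⁻¹)⁻¹ * (g₂ * x⁻¹ * g₂⁻¹)⁻¹) :
    Good p a b :=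
  ⟨not_prime_pow_of_pow_eq_one hN h1 hne,
    not_isSolvable hx hg₁ hg₂ hx1 (by rw [commutatorElement_def]; exact hw)⟩

theorem prod_apply_of_notMem : ∀ (ls : List (List α)) (x : α), x ∉ ls.flatten →
    (ls.map List.formPerm).prod x = x
  | [], _, _ => rfl
  | l :: ls, x, hx => by
    rw [List.flatten_cons, List.mem_append, not_or] at hx
    rw [List.map_cons, List.prod_cons, Perm.mul_apply, prod_apply_of_notMem ls x hx.2,
      formPerm_apply_of_notMem hx.1]

theorem cycleType_prod [Fintype α] : ∀ ls : List (List α), ls.flatten.Nodup → (∀ l ∈ ls, 2 ≤ l.length) →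
    (ls.map List.formPerm).prod.cycleType = ((ls.map List.length : List ℕ) : Multiset ℕ)
  | [], _, _ => by simp
  | l :: ls, hnd, hlen => by
    rw [List.flatten_cons] at hnd
    have hd := List.nodup_append.1 hnd
    have hl := hlen l (by simp)
    have hfix := prod_apply_of_notMem ls
    have hdisj : Perm.Disjoint l.formPerm (ls.map List.formPerm).prod := fun x => by
      by_cases hx : x ∈ l
      · exact Or.inr (hfix x fun h => hd.2.2 x hx x h rfl)
      · exact Or.inl (formPerm_apply_of_notMem hx)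
    rw [List.map_cons, List.prod_cons, hdisj.cycleType_mul,
      cycleType_prod ls hd.2.1 (fun y hy => hlen y (List.mem_cons_of_mem _ hy)),
      (List.isCycle_formPerm hd.1 hl).cycleType, List.support_formPerm_of_nodup _ hd.1 (fun x hx => by
        rw [hx] at hl; simp at hl), List.toFinset_card_of_nodup hd.1]
    simp

theorem sum_parity : ∀ ls : List ℕ, (∀ l ∈ ls, Odd l) → (Odd ls.sum ↔ Odd ls.length)
  | [], _ => by simp
  | l :: ls, h => by
    rw [List.sum_cons, List.length_cons, Nat.odd_add', Nat.odd_add_one,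
      sum_parity ls (fun x hx => h x (List.mem_cons_of_mem _ hx))]
    simp [← Nat.not_odd_iff_even, h l (by simp)]

section ZMod

variable {A : ℕ} [NeZero A]

theorem cast_inj {i j : ℕ} (hi : i < A) (hj : j < A) (h : (i : ZMod A) = j) : i = j := by
  have := congrArg ZMod.val h
  rwa [ZMod.val_natCast_of_lt hi, ZMod.val_natCast_of_lt hj] at this

/-- The rotation. -/
def rot (A : ℕ) : Perm (ZMod A) := Equiv.addRight 1

@[simp] theorem rot_pow_apply (s : ℕ) (x : ZMod A) : (rot A ^ s) x = x + s := by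
  induction s with
  | zero => simp
  | succ s ih =>
    rw [pow_succ', Perm.mul_apply, ih]
    simp [rot, add_assoc]

theorem rot_apply (x : ZMod A) : rot A x = x + 1 := rfl

/-- The points `s, …, s + n - 1`. -/
def run (A s n : ℕ) : List (ZMod A) := (List.range' s n).map (fun i : ℕ => (i : ZMod A))

theorem run_nodup {s n : ℕ} (h : s + n ≤ A) : (run A s n).Nodup := by
  refine List.Nodup.map_on (fun x hx y hy e => ?_) List.nodup_range'
  rw [List.mem_range'_1] at hx hy
  exact cast_inj (by omega) (by omega) e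

theorem not_mem_run {s n i : ℕ} (h : s + n ≤ A) (hi : i < s) : (i : ZMod A) ∉ run A s n := by
  intro hm
  obtain ⟨j, hj, e⟩ := List.mem_map.1 hm
  rw [List.mem_range'_1] at hj
  have := cast_inj (A := A) (by omega) (by omega) e
  omega

theorem run_append (s m n : ℕ) : run A s m ++ run A (s + m) n = run A s (m + n) := by
  rw [run, run, run, ← List.map_append, List.range'_append_1]

theorem formPerm_run : (run A 0 A).formPerm = rot A := by
  refine Equiv.ext fun x => ?_
  have hx : x.val < (run A 0 A).length := by simp [run, ZMod.val_lt]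
  have hget : (run A 0 A)[x.val] = x := by simp [run]
  conv_lhs => rw [← hget]
  rw [formPerm_apply_getElem _ (run_nodup (by omega)) _ hx, rot_apply]
  simp [run]

theorem inj_of (f : Fin 5 → ℕ) (hf : Function.Injective f) (hlt : ∀ i, f i < A) :
    Function.Injective fun i => ((f i : ℕ) : ZMod A) :=
  fun i j e => hf (cast_inj (hlt i) (hlt j) e)

/-- The involution used in the main case. -/
def dInv (A : ℕ) : Perm (ZMod A) :=
  Equiv.swap ((0 : ℕ) : ZMod A) (2 : ℕ) * Equiv.swap ((1 : ℕ) : ZMod A) (3 : ℕ)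

theorem swap_commute {g : Perm (ZMod A)} {x y : ZMod A} (hx : g x = x) (hy : g y = y) :
    Commute (Equiv.swap x y) g := by
  have := Equiv.mul_swap_eq_swap_mul g x y
  rw [hx, hy] at this
  exact this.symm

theorem core_large {p l : ℕ} (hp : Odd p) (hA : Odd A) (hl : 5 ≤ l) (hlo : Odd l) (rest : List ℕ)
    (hr : ∀ x ∈ rest, Odd x) (hsum : l + rest.sum = A) :
    ∃ b : Perm (ZMod A), b.cycleType = ((l :: rest : List ℕ) : Multiset ℕ).filter (2 ≤ ·) ∧
      Good p (rot A) b := by
  have hlA : l ≤ A := by omega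
  obtain ⟨vR, WR, hR⟩ := exists_factor rest (fun x hx => (hr x hx).pos) (run A l (A - l))
    (run_nodup (by omega)) (by simp [run]; omega)
  let c : ℕ → ZMod A := fun i => (i : ZMod A)
  have hB : run A 0 (l - 1) ++ [c (l - 1)] = run A 0 l := by
    have : run A (0 + (l - 1)) 1 = [c (l - 1)] := by simp [run, c]
    rw [← this, run_append, show l - 1 + 1 = l by omega]
  have hL : (run A 0 (l - 1) ++ [c (l - 1)]) ++ run A l (A - l) = run A 0 A := by
    rw [hB]
    have := run_append (A := A) 0 l (A - l)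
    rwa [zero_add, Nat.add_sub_cancel' hlA] at this
  have hF := hR.cons (run A 0 (l - 1)) (c (l - 1)) (by rw [hL]; exact run_nodup (by omega))
  rw [hL, hB, show (run A 0 (l - 1)).length + 1 = l by simp [run]; omega] at hF
  set W := c (l - 1) :: WR with hW
  set v := (run A 0 l).formPerm * vR with hv
  have hWfix : ∀ i < 4, W.formPerm (c i) = c i := by
    intro i hi
    refine formPerm_apply_of_notMem fun hm => ?_
    rcases List.mem_cons.1 hm with h | h
    · have := cast_inj (by omega) (by omega) h; omega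
    · exact not_mem_run (by omega) (by omega : i < l) (hR.sub _ h)
  have hvRfix : ∀ i < 4, vR (c i) = c i := fun i hi => hR.supp _ (not_mem_run (by omega) (by omega))
  have hdW : Commute (dInv A) W.formPerm :=
    ((swap_commute (hWfix 0 (by norm_num)) (hWfix 2 (by norm_num)))).mul_left
      (swap_commute (hWfix 1 (by norm_num)) (hWfix 3 (by norm_num)))
  -- the five point embedding
  let f : Fin 5 ↪ ZMod A :=
    ⟨_, inj_of (fun i : Fin 5 => (i : ℕ)) Fin.val_injective (fun i => by omega)⟩
  have hsplit : (run A 0 l).formPerm = [c 0, c 1, c 2, c 3, c 4].formPerm * (run A 4 (l - 4)).formPerm := by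
    have h1 : run A 4 (l - 4) = c 4 :: run A 5 (l - 5) := by
      rw [show l - 4 = l - 5 + 1 by omega]
      simp [run, List.range'_succ, c]
    have h2 : run A 0 l = [c 0, c 1, c 2, c 3] ++ run A 4 (l - 4) := by
      have : run A 0 4 = [c 0, c 1, c 2, c 3] := by simp [run, c, List.range'_succ]
      rw [← this]
      have := run_append (A := A) 0 4 (l - 4)
      rw [zero_add, Nat.add_sub_cancel' (by omega : 4 ≤ l)] at this
      exact this.symm
    rw [h2, h1, formPerm_append_cons]
    rfl
  have htail : ∀ i < 4, (run A 4 (l - 4)).formPerm (c i) = c i := fun i hi =>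
    formPerm_apply_of_notMem (not_mem_run (by omega) hi)
  have hfive : [c 0, c 1, c 2, c 3, c 4].formPerm * dInv A =
      Equiv.swap (c 1) (c 3) * [c 0, c 1, c 2, c 3, c 4].formPerm * (Equiv.swap (c 1) (c 3))⁻¹ := by
    have h5 : [(0 : Fin 5), 1, 2, 3, 4].formPerm * (Equiv.swap 0 2 * Equiv.swap 1 3) =
        Equiv.swap 1 3 * [(0 : Fin 5), 1, 2, 3, 4].formPerm * (Equiv.swap 1 3)⁻¹ := by decide +kernel
    have := congrArg (Perm.viaEmbeddingHom f) h5
    simp only [map_mul, map_inv, viaEmbedding_swap, viaEmbedding_formPerm] at this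
    exact this
  set π := Equiv.swap (c 1) (c 3)
  have hv' : v * dInv A = π * v * π⁻¹ := by
    have hc1 : Commute (dInv A) ((run A 4 (l - 4)).formPerm * vR) :=
      (((swap_commute (htail 0 (by norm_num)) (htail 2 (by norm_num)))).mul_left
        (swap_commute (htail 1 (by norm_num)) (htail 3 (by norm_num)))).mul_right
      (((swap_commute (hvRfix 0 (by norm_num)) (hvRfix 2 (by norm_num)))).mul_left
        (swap_commute (hvRfix 1 (by norm_num)) (hvRfix 3 (by norm_num))))
    have hc2 : Commute π ((run A 4 (l - 4)).formPerm * vR) :=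
      (swap_commute (htail 1 (by norm_num)) (htail 3 (by norm_num))).mul_right
      (swap_commute (hvRfix 1 (by norm_num)) (hvRfix 3 (by norm_num)))
    rw [hv, hsplit, mul_assoc _ _ vR]
    generalize (run A 4 (l - 4)).formPerm * vR = t at hc1 hc2
    rw [mul_assoc, ← hc1.eq, ← mul_assoc, hfive, mul_assoc, hc2.inv_left.eq]
    simp only [mul_assoc]
  have hd2 : dInv A * dInv A = 1 := by
    have : ∀ i j : ℕ, i < 4 → j < 4 → i ≠ j → c i ≠ c j := fun i j hi hj hne e =>
      hne (cast_inj (by omega) (by omega) e)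
    have hcc : Commute (Equiv.swap (c 0) (c 2)) (Equiv.swap (c 1) (c 3)) :=
      swap_commute (Equiv.swap_apply_of_ne_of_ne (this 0 1 (by norm_num) (by norm_num) (by norm_num))
        (this 0 3 (by norm_num) (by norm_num) (by norm_num)))
        (Equiv.swap_apply_of_ne_of_ne (this 2 1 (by norm_num) (by norm_num) (by norm_num))
        (this 2 3 (by norm_num) (by norm_num) (by norm_num)))
    change Equiv.swap (c 0) (c 2) * Equiv.swap (c 1) (c 3) * (Equiv.swap (c 0) (c 2) * Equiv.swap (c 1) (c 3)) = 1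
    rw [mul_assoc, ← mul_assoc (Equiv.swap (c 1) (c 3)), ← hcc.eq, mul_assoc, Equiv.swap_mul_self,
      mul_one, Equiv.swap_mul_self]
  refine ⟨(v * dInv A)⁻¹, by rw [cycleType_inv, hv', cycleType_conj, hv, hF.type], Good.symm ?_⟩
  have hprod : (v * dInv A)⁻¹ * rot A = dInv A * W.formPerm := by
    rw [← formPerm_run, hF.eq, mul_inv_rev, mul_assoc, inv_mul_cancel_left,
      inv_eq_of_mul_eq_one_right hd2]
  refine ⟨?_, ?_⟩
  · rw [hprod]
    refine not_prime_pow hp hd2 hdW (hWfix 0 (by norm_num)) ?_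
    change (Equiv.swap (c 0) (c 2) * Equiv.swap (c 1) (c 3)) (c 0) ≠ c 0
    have hne : ∀ i j : ℕ, i < 4 → j < 4 → i ≠ j → c i ≠ c j := fun i j hi hj hij e =>
      hij (cast_inj (by omega) (by omega) e)
    rw [Perm.mul_apply, Equiv.swap_apply_of_ne_of_ne (hne 0 1 (by norm_num) (by norm_num) (by norm_num))
      (hne 0 3 (by norm_num) (by norm_num) (by norm_num)), Equiv.swap_apply_left]
    exact hne 2 0 (by norm_num) (by norm_num) (by norm_num)
  · set G := closure ({(v * dInv A)⁻¹, rot A} : Set (Perm (ZMod A)))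
    have hrot : rot A ∈ G := subset_closure (by simp)
    have hdG : dInv A ∈ G := by
      have h1 : dInv A * W.formPerm ∈ G := hprod ▸ mul_mem (subset_closure (by simp)) hrot
      have hk : Odd W.length := by
        rw [hW, List.length_cons, hR.len, ← List.length_cons (a := l) (as := rest)]
        refine (sum_parity _ ?_).1 (by rw [List.sum_cons, hsum]; exact hA)
        intro x hx
        rcases List.mem_cons.1 hx with rfl | hx
        · exact hlo
        · exact hr x hx
      obtain ⟨m, hm⟩ := hk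
      have h2 := pow_mem h1 W.length
      rw [hdW.mul_pow, formPerm_pow_length_eq_one_of_nodup W hF.nodup, mul_one, hm, pow_succ, pow_mul,
        pow_two, hd2, one_pow, one_mul] at h2
      exact h2
    let g : Fin 5 ↪ ZMod A := ⟨fun i => ((2 * (i : ℕ) : ℕ) : ZMod A), fun i j e => by
      have h2 : Nat.ModEq A (2 * (i : ℕ)) (2 * (j : ℕ)) := (ZMod.natCast_eq_natCast_iff _ _ _).1 e
      have h3 := Nat.ModEq.cancel_left_of_coprime ((Nat.coprime_two_right.2 hA).gcd_eq_one) h2
      exact Fin.ext (Nat.ModEq.eq_of_lt_of_lt h3 (by omega) (by omega))⟩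
    have hc : dInv A * (rot A * dInv A * (rot A)⁻¹) = [g 0, g 1, g 2].formPerm := by
      have h1 : rot A * dInv A * (rot A)⁻¹ = Equiv.swap (c 1) (c 3) * Equiv.swap (c 2) (c 4) := by
        rw [dInv, show rot A * (Equiv.swap ((0 : ℕ) : ZMod A) (2 : ℕ) * Equiv.swap ((1 : ℕ) : ZMod A) (3 : ℕ)) * (rot A)⁻¹ =
          (rot A * Equiv.swap ((0 : ℕ) : ZMod A) (2 : ℕ) * (rot A)⁻¹) * (rot A * Equiv.swap ((1 : ℕ) : ZMod A) (3 : ℕ) * (rot A)⁻¹) by group,
          ← Equiv.swap_apply_apply, ← Equiv.swap_apply_apply]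
        simp only [rot_apply, c]
        norm_num
      rw [h1, dInv, mul_assoc, ← mul_assoc (Equiv.swap ((1 : ℕ) : ZMod A) _), Equiv.swap_mul_self, one_mul,
        formPerm_cons_cons, formPerm_pair]
      rfl
    refine not_isSolvable_shift g (pow_mem hrot 4) ?_ ?_ ?_
      (hc ▸ mul_mem hdG (mul_mem (mul_mem hrot hdG) (inv_mem hrot))) <;>
    · rw [rot_pow_apply]
      exact ((Nat.cast_add _ _).symm).trans rfl

end ZMod

end CfsgLib.AltPFree
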