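import Cfsg.Agent.Lib.AltPFree.Witness

/-!
Three-cycle shapes, two conjugacy classes of full cycles and the small cases.
-/

set_option autoImplicit false

namespace CfsgLib.AltPFree

open Equiv Equiv.Perm List Subgroup

section ZMod

variable {A : ℕ} [NeZero A]

theorem viaEmbedding_prodCongr_swap (g : Fin 2 × Fin 5 ↪ ZMod A) (ψ : Perm (Fin 5) →* Perm (Fin 2 × Fin 5))
    (hψ : ∀ σ x, ψ σ x = (x.1, σ x.2)) (i j : Fin 5) :
    (Perm.viaEmbeddingHom g).comp ψ (Equiv.swap i j) =
      Equiv.swap (g (0, i)) (g (0, j)) * Equiv.swap (g (1, i)) (g (1, j)) := by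
  have h : ψ (Equiv.swap i j) = Equiv.swap ((0 : Fin 2), i) (0, j) * Equiv.swap ((1 : Fin 2), i) (1, j) := by
    refine Equiv.ext fun x => ?_
    rw [hψ]
    revert i j x
    decide +kernel
  rw [MonoidHom.comp_apply, h, map_mul, viaEmbedding_swap, viaEmbedding_swap]

theorem core_one_three {p : ℕ} (hp : p.Prime) (hA : 5 ≤ A) (h3 : p = 3) (hdiv : 3 ∣ A) :
    ∃ b : Perm (ZMod A), b.cycleType = {3} ∧ Good p (rot A) b := by
  obtain ⟨vR, WR, hR⟩ := exists_factor (List.replicate (A - 3) 1)
    (fun x hx => by rw [List.eq_of_mem_replicate hx]; norm_num) (run A 3 (A - 3))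
    (run_nodup (by omega)) (by simp [run])
  let c : ℕ → ZMod A := fun i => (i : ZMod A)
  have hL : (run A 0 2 ++ [c 2]) ++ run A 3 (A - 3) = run A 0 A := by
    have h1 : run A 0 2 ++ [c 2] = run A 0 3 := by simp [run, c, List.range'_succ]
    rw [h1]
    have := run_append (A := A) 0 3 (A - 3)
    rwa [zero_add, Nat.add_sub_cancel' (by omega : 3 ≤ A)] at this
  have hF := hR.cons (run A 0 2) (c 2) (by rw [hL]; exact run_nodup (by omega))
  rw [hL] at hF
  have hvR : vR = 1 := by
    rw [← cycleType_eq_zero, hR.type]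
    refine Multiset.filter_eq_nil.2 fun x hx => ?_
    rw [Multiset.mem_coe] at hx
    rw [List.eq_of_mem_replicate hx]
    norm_num
  set v := (run A 0 2 ++ [c 2]).formPerm * vR with hv
  refine ⟨v⁻¹, by
    rw [cycleType_inv, hF.type]
    simp [run, Multiset.coe_replicate, ← Multiset.cons_coe]
    have h0 : (Multiset.replicate (A - 3) 1).filter (fun x => 2 ≤ x) = 0 :=
      Multiset.filter_eq_nil.2 fun x hx => by rw [Multiset.eq_of_mem_replicate hx]; norm_num
    rw [h0]
    rfl, Good.symm ?_⟩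
  have hprod : v⁻¹ * rot A = (c 2 :: WR).formPerm := by
    rw [← formPerm_run, hF.eq, inv_mul_cancel_left]
  refine ⟨?_, ?_⟩
  · rw [hprod]
    have hlen : (c 2 :: WR).length = A - 2 := by
      rw [List.length_cons, hR.len, List.length_replicate]; omega
    subst h3
    refine not_prime_pow_of_pow_eq_one (N := A - 2) ?_ (hlen ▸ formPerm_pow_length_eq_one_of_nodup _ hF.nodup) ?_
    · exact (Nat.prime_three.coprime_iff_not_dvd).2 fun h => by omega
    · intro h1
      have := (formPerm_eq_one_iff _ hF.nodup).1 h1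
      omega
  · set G := closure ({v⁻¹, rot A} : Set (Perm (ZMod A)))
    have hrot : rot A ∈ G := subset_closure (by simp)
    have hvG : v ∈ G := by
      have := inv_mem (subset_closure (by simp) : v⁻¹ ∈ G)
      rwa [inv_inv] at this
    let f : Fin 5 ↪ ZMod A :=
      ⟨_, inj_of (fun i : Fin 5 => (i : ℕ)) Fin.val_injective (fun i => by omega)⟩
    have hv3 : v = [f 0, f 1, f 2].formPerm := by
      rw [hv, hvR, mul_one]
      rfl
    refine not_isSolvable_shift f (pow_mem hrot 2) ?_ ?_ ?_ (hv3 ▸ hvG) <;>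
    · rw [rot_pow_apply]
      exact ((Nat.cast_add _ _).symm).trans rfl

theorem core_threes {p : ℕ} (hp : Odd p) (hA : Odd A) (hA15 : 15 ≤ A) (rest : List ℕ)
    (hr : ∀ x ∈ rest, Odd x) (hsum : 3 + (3 + rest.sum) = A) :
    ∃ b : Perm (ZMod A), b.cycleType = ((3 :: 3 :: rest : List ℕ) : Multiset ℕ).filter (2 ≤ ·) ∧
      Good p (rot A) b := by
  obtain ⟨vR, WR, hR⟩ := exists_factor rest (fun x hx => (hr x hx).pos) (run A 6 (A - 6))
    (run_nodup (by omega)) (by simp [run]; omega)
  let c : ℕ → ZMod A := fun i => (i : ZMod A)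
  have hL6 : (run A 3 2 ++ [c 5]) ++ run A 6 (A - 6) = run A 3 (A - 3) := by
    have h1 : run A 3 2 ++ [c 5] = run A 3 3 := by simp [run, c, List.range'_succ]
    rw [h1]
    have := run_append (A := A) 3 3 (A - 6)
    rwa [show 3 + (A - 6) = A - 3 by omega] at this
  have hF6 := hR.cons (run A 3 2) (c 5) (by rw [hL6]; exact run_nodup (by omega))
  rw [hL6] at hF6
  have hL : (run A 0 2 ++ [c 2]) ++ run A 3 (A - 3) = run A 0 A := by
    have h1 : run A 0 2 ++ [c 2] = run A 0 3 := by simp [run, c, List.range'_succ]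
    rw [h1]
    have := run_append (A := A) 0 3 (A - 3)
    rwa [zero_add, Nat.add_sub_cancel' (by omega : 3 ≤ A)] at this
  have hF := hF6.cons (run A 0 2) (c 2) (by rw [hL]; exact run_nodup (by omega))
  rw [hL] at hF
  set W := c 2 :: c 5 :: WR with hW
  have hb1 : run A 0 2 ++ [c 2] = [c 0, c 1, c 2] := by simp [run, c, List.range'_succ]
  have hb2 : run A 3 2 ++ [c 5] = [c 3, c 4, c 5] := by simp [run, c, List.range'_succ]
  rw [hb1, hb2, ← mul_assoc] at hF
  set v := [c 0, c 1, c 2].formPerm * [c 3, c 4, c 5].formPerm * vR with hv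
  have hne : ∀ i j : ℕ, i < 6 → j < 6 → i ≠ j → c i ≠ c j := fun i j hi hj hij e =>
    hij (cast_inj (by omega) (by omega) e)
  have hWfix : ∀ i < 6, i ≠ 2 → i ≠ 5 → W.formPerm (c i) = c i := by
    intro i hi h2 h5
    refine formPerm_apply_of_notMem fun hm => ?_
    rcases List.mem_cons.1 hm with h | hm
    · exact hne i 2 hi (by norm_num) h2 h
    rcases List.mem_cons.1 hm with h | hm
    · exact hne i 5 hi (by norm_num) h5 h
    · exact not_mem_run (by omega) (by omega : i < 6) (hR.sub _ hm)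
  have hvRfix : ∀ i < 6, vR (c i) = c i := fun i hi => hR.supp _ (not_mem_run (by omega) hi)
  set d := Equiv.swap (c 0) (c 3) * Equiv.swap (c 1) (c 4) with hd
  have hdW : Commute d W.formPerm :=
    (swap_commute (hWfix 0 (by norm_num) (by norm_num) (by norm_num)) (hWfix 3 (by norm_num) (by norm_num) (by norm_num))).mul_left
      (swap_commute (hWfix 1 (by norm_num) (by norm_num) (by norm_num)) (hWfix 4 (by norm_num) (by norm_num) (by norm_num)))
  set π := Equiv.swap (c 1) (c 4) with hπ
  have hdR : Commute d vR :=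
    (swap_commute (hvRfix 0 (by norm_num)) (hvRfix 3 (by norm_num))).mul_left
      (swap_commute (hvRfix 1 (by norm_num)) (hvRfix 4 (by norm_num)))
  have hπR : Commute π vR := swap_commute (hvRfix 1 (by norm_num)) (hvRfix 4 (by norm_num))
  let f6 : Fin 6 ↪ ZMod A :=
    ⟨fun i => ((i : ℕ) : ZMod A), fun i j e => Fin.ext (cast_inj (by omega) (by omega) e)⟩
  have hsix : [c 0, c 1, c 2].formPerm * [c 3, c 4, c 5].formPerm * d =
      π * ([c 0, c 1, c 2].formPerm * [c 3, c 4, c 5].formPerm) * π⁻¹ := by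
    have h6 : [(0 : Fin 6), 1, 2].formPerm * [(3 : Fin 6), 4, 5].formPerm * (Equiv.swap 0 3 * Equiv.swap 1 4) =
        Equiv.swap 1 4 * ([(0 : Fin 6), 1, 2].formPerm * [(3 : Fin 6), 4, 5].formPerm) * (Equiv.swap 1 4)⁻¹ := by
      decide +kernel
    have := congrArg (Perm.viaEmbeddingHom f6) h6
    simp only [map_mul, map_inv, viaEmbedding_swap, viaEmbedding_formPerm] at this
    exact this
  have hv' : v * d = π * v * π⁻¹ := by
    rw [hv, mul_assoc _ vR, ← hdR.eq, ← mul_assoc, hsix]
    simp only [mul_assoc, hπR.inv_left.eq]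
  have hd2 : d * d = 1 := by
    have hcc : Commute (Equiv.swap (c 0) (c 3)) (Equiv.swap (c 1) (c 4)) :=
      swap_commute (Equiv.swap_apply_of_ne_of_ne (hne 0 1 (by norm_num) (by norm_num) (by norm_num))
        (hne 0 4 (by norm_num) (by norm_num) (by norm_num)))
        (Equiv.swap_apply_of_ne_of_ne (hne 3 1 (by norm_num) (by norm_num) (by norm_num))
        (hne 3 4 (by norm_num) (by norm_num) (by norm_num)))
    rw [hd, mul_assoc, ← mul_assoc π, ← hcc.eq, mul_assoc, Equiv.swap_mul_self, mul_one, Equiv.swap_mul_self]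
  refine ⟨(v * d)⁻¹, by rw [cycleType_inv, hv', cycleType_conj, hF.type]; simp [run], Good.symm ?_⟩
  have hprod : (v * d)⁻¹ * rot A = d * W.formPerm := by
    rw [← formPerm_run, hF.eq, mul_inv_rev, mul_assoc, inv_mul_cancel_left, inv_eq_of_mul_eq_one_right hd2]
  refine ⟨?_, ?_⟩
  · rw [hprod]
    refine not_prime_pow hp hd2 hdW (hWfix 0 (by norm_num) (by norm_num) (by norm_num)) ?_
    rw [hd, Perm.mul_apply, Equiv.swap_apply_of_ne_of_ne (hne 0 1 (by norm_num) (by norm_num) (by norm_num))
      (hne 0 4 (by norm_num) (by norm_num) (by norm_num)), Equiv.swap_apply_left]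
    exact hne 3 0 (by norm_num) (by norm_num) (by norm_num)
  · set G := closure ({(v * d)⁻¹, rot A} : Set (Perm (ZMod A)))
    have hrot : rot A ∈ G := subset_closure (by simp)
    have hdG : d ∈ G := by
      have h1 : d * W.formPerm ∈ G := hprod ▸ mul_mem (subset_closure (by simp)) hrot
      have hk : Odd W.length := by
        have : W.length = (3 :: 3 :: rest).length := by simp [hW, hR.len]
        rw [this]
        refine (sum_parity _ ?_).1 (by simp only [List.sum_cons]; rw [hsum]; exact hA)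
        intro x hx
        rcases List.mem_cons.1 hx with rfl | hx
        · decide
        rcases List.mem_cons.1 hx with rfl | hx
        · decide
        · exact hr x hx
      obtain ⟨m, hm⟩ := hk
      have h2 := pow_mem h1 W.length
      rw [hdW.mul_pow, formPerm_pow_length_eq_one_of_nodup W hF.nodup, mul_one, hm, pow_succ, pow_mul,
        pow_two, hd2, one_pow, one_mul] at h2
      exact h2
    let ψ : Perm (Fin 5) →* Perm (Fin 2 × Fin 5) :=
      { toFun := fun σ => Equiv.prodCongr (1 : Perm (Fin 2)) σ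
        map_one' := rfl
        map_mul' := fun _ _ => rfl }
    have hψinj : Function.Injective ψ := fun σ τ h => Equiv.ext fun x =>
      congrArg Prod.snd (congrArg (fun e : Perm (Fin 2 × Fin 5) => e (0, x)) h)
    let g : Fin 2 × Fin 5 ↪ ZMod A := ⟨fun x => ((3 * (x.2 : ℕ) + (x.1 : ℕ) : ℕ) : ZMod A), fun x y e => by
      have h1 := cast_inj (by omega) (by omega) e
      exact Prod.ext (Fin.ext (by omega)) (Fin.ext (by omega))⟩
    let Φ := (Perm.viaEmbeddingHom g).comp ψ
    have hΦ : Function.Injective Φ := (Perm.viaEmbeddingHom_injective g).comp hψinj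
    have hswap : ∀ i j : Fin 5, (i : ℕ) + 1 = j → Φ (Equiv.swap i j) ∈ G := by
      intro i j hij
      have h1 : Φ (Equiv.swap i j) = (rot A ^ (3 * (i : ℕ))) * d * (rot A ^ (3 * (i : ℕ)))⁻¹ := by
        rw [viaEmbedding_prodCongr_swap g ψ (fun _ _ => rfl), hd, hπ,
          show ∀ r a b : Perm (ZMod A), r * (a * b) * r⁻¹ = (r * a * r⁻¹) * (r * b * r⁻¹) from
            fun r a b => by group,
          ← Equiv.swap_apply_apply, ← Equiv.swap_apply_apply]
        simp only [rot_pow_apply, c, ← Nat.cast_add]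
        change Equiv.swap ((3 * (i : ℕ) + 0 : ℕ) : ZMod A) ((3 * (j : ℕ) + 0 : ℕ) : ZMod A) *
          Equiv.swap ((3 * (i : ℕ) + 1 : ℕ) : ZMod A) ((3 * (j : ℕ) + 1 : ℕ) : ZMod A) = _
        rw [← hij]
        simp [Nat.mul_add, Nat.add_comm, Nat.add_left_comm]
        congr 1 <;> ring
      rw [h1]
      exact mul_mem (mul_mem (pow_mem hrot _) hdG) (inv_mem (pow_mem hrot _))
    refine not_isSolvable_five Φ hΦ ?_ ?_
    · rw [formPerm_cons_cons, formPerm_pair, map_mul]
      exact mul_mem (hswap 0 1 rfl) (hswap 1 2 rfl)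
    · rw [formPerm_cons_cons, formPerm_pair, map_mul]
      exact mul_mem (hswap 2 3 rfl) (hswap 3 4 rfl)

theorem core_two_classes {p : ℕ} (hp : Odd p) (hAo : Odd A) (hA : 7 ≤ A) :
    ∃ b π : Perm (ZMod A), b.cycleType = {A} ∧ Perm.sign π = -1 ∧ Good p (rot A) b ∧
      Good p (rot A) (π * b * π⁻¹) := by
  let c : ℕ → ZMod A := fun i => (i : ZMod A)
  let f : Fin 7 ↪ ZMod A :=
    ⟨fun i => ((i : ℕ) : ZMod A), fun i j e => Fin.ext (cast_inj (by omega) (by omega) e)⟩
  let Φ : Perm (Fin 7) →* Perm (ZMod A) := Perm.viaEmbeddingHom f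
  have hne : ∀ i j : ℕ, i < 7 → j < 7 → i ≠ j → c i ≠ c j := fun i j hi hj hij e =>
    hij (cast_inj (by omega) (by omega) e)
  -- the two involutions and their conjugators
  let d₀ : Perm (Fin 7) := Equiv.swap 0 2 * Equiv.swap 1 3
  let d₁ : Perm (Fin 7) := Equiv.swap 0 4 * Equiv.swap 2 5
  let π₁ : Perm (Fin 7) := [1, 5, 2, 3, 4].formPerm
  have hrun : (run A 0 A).formPerm = Φ [0, 1, 2, 3, 4, 5, 6].formPerm * (run A 6 (A - 6)).formPerm := by
    have h2 : run A 0 A = [c 0, c 1, c 2, c 3, c 4, c 5] ++ run A 6 (A - 6) := by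
      have : run A 0 6 = [c 0, c 1, c 2, c 3, c 4, c 5] := by simp [run, c, List.range'_succ]
      rw [← this]
      have := run_append (A := A) 0 6 (A - 6)
      rw [zero_add, Nat.add_sub_cancel' (by omega : 6 ≤ A)] at this
      exact this.symm
    have h1 : run A 6 (A - 6) = c 6 :: run A 7 (A - 7) := by
      rw [show A - 6 = A - 7 + 1 by omega]
      simp [run, List.range'_succ, c]
    rw [h2, h1, formPerm_append_cons, viaEmbedding_formPerm]
    rfl
  have key : ∀ d π : Perm (Fin 7), d * d = 1 → d ≠ 1 → π 6 = 6 → d 6 = 6 →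
      [0, 1, 2, 3, 4, 5, 6].formPerm * d = π * [0, 1, 2, 3, 4, 5, 6].formPerm * π⁻¹ →
      rot A * Φ d = Φ π * rot A * (Φ π)⁻¹ ∧
        (¬ ∃ k, orderOf ((rot A * Φ d)⁻¹ * rot A) = p ^ k) ∧
        Φ d ∈ closure ({(rot A * Φ d)⁻¹, rot A} : Set (Perm (ZMod A))) := by
    intro d π hd hd1 hπ6 hd6 hid
    have hfix : ∀ σ : Perm (Fin 7), σ 6 = 6 → Commute (Φ σ) (run A 6 (A - 6)).formPerm := by
      intro σ hσ
      refine (Perm.Disjoint.commute fun x => ?_)
      by_cases hx : x ∈ run A 6 (A - 6)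
      · refine Or.inl ?_
        obtain ⟨i, hi, rfl⟩ := List.mem_map.1 hx
        rw [List.mem_range'_1] at hi
        change Perm.viaEmbedding σ f (i : ZMod A) = i
        by_cases hi6 : i = 6
        · subst hi6
          have : ((6 : ℕ) : ZMod A) = f 6 := rfl
          rw [this, Perm.viaEmbedding_apply, hσ]
        · refine Perm.viaEmbedding_apply_of_notMem _ _ _ fun ⟨j, hj⟩ => ?_
          have := cast_inj (A := A) (by omega) (by omega) hj
          omega
      · exact Or.inr (formPerm_apply_of_notMem hx)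
    have h1 : rot A * Φ d = Φ π * rot A * (Φ π)⁻¹ := by
      rw [← formPerm_run, hrun, mul_assoc, ← (hfix d hd6).eq, ← mul_assoc, ← map_mul, hid, map_mul,
        map_mul, map_inv]
      simp only [mul_assoc, (hfix π hπ6).inv_left.eq]
    have h2 : (rot A * Φ d)⁻¹ * rot A = Φ d := by
      rw [mul_inv_rev, inv_mul_cancel_right, ← map_inv, inv_eq_of_mul_eq_one_right hd]
    refine ⟨h1, ?_, ?_⟩
    · rw [h2]
      have hcop : Nat.Coprime p 2 := Nat.coprime_two_right.2 hp
      exact not_prime_pow_of_pow_eq_one hcop (by rw [pow_two, ← map_mul, hd, map_one]) fun e =>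
        hd1 (Perm.viaEmbeddingHom_injective f (e.trans (map_one _).symm))
    · have hm : (rot A * Φ d)⁻¹ * rot A ∈ closure ({(rot A * Φ d)⁻¹, rot A} : Set (Perm (ZMod A))) :=
        mul_mem (subset_closure (by simp)) (subset_closure (by simp))
      rwa [h2] at hm
  obtain ⟨he0, hn0, hm0⟩ := key d₀ (Equiv.swap 1 3) (by decide +kernel) (by decide +kernel)
    (by decide +kernel) (by decide +kernel) (by decide +kernel)
  obtain ⟨he1, hn1, hm1⟩ := key d₁ π₁ (by decide +kernel) (by decide +kernel)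
    (by decide +kernel) (by decide +kernel) (by decide +kernel)
  have hrf : ∀ i j : Fin 7, (i : ℕ) + 1 = j → rot A (f i) = f j := fun i j hij => by
    change ((i : ℕ) : ZMod A) + 1 = ((j : ℕ) : ZMod A)
    rw [← hij, Nat.cast_add, Nat.cast_one]
  have g0 : Good p (rot A) (rot A * Φ d₀)⁻¹ := Good.symm ⟨hn0, by
    set G := closure ({(rot A * Φ d₀)⁻¹, rot A} : Set (Perm (ZMod A)))
    have hrot : rot A ∈ G := subset_closure (by simp)
    have he : rot A * Φ d₀ * (rot A)⁻¹ = Φ (Equiv.swap 1 3 * Equiv.swap 2 4) := by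
      rw [show d₀ = Equiv.swap 0 2 * Equiv.swap 1 3 from rfl, map_mul, map_mul]
      simp only [Φ, viaEmbedding_swap]
      rw [show ∀ r a b : Perm (ZMod A), r * (a * b) * r⁻¹ = (r * a * r⁻¹) * (r * b * r⁻¹) from
          fun r a b => by group,
        ← Equiv.swap_apply_apply, ← Equiv.swap_apply_apply, hrf 0 1 rfl, hrf 1 2 rfl, hrf 2 3 rfl, hrf 3 4 rfl]
    have hc : Φ [0, 2, 4].formPerm ∈ G := by
      have := mul_mem hm0 (mul_mem (mul_mem hrot hm0) (inv_mem hrot))
      rw [he, ← map_mul] at this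
      convert this using 2
      decide +kernel
    let g : Fin 5 ↪ ZMod A := ⟨fun i => ((2 * (i : ℕ) : ℕ) : ZMod A), fun i j e => by
      have h2 : Nat.ModEq A (2 * (i : ℕ)) (2 * (j : ℕ)) := (ZMod.natCast_eq_natCast_iff _ _ _).1 e
      exact Fin.ext (Nat.ModEq.eq_of_lt_of_lt
        (Nat.ModEq.cancel_left_of_coprime ((Nat.coprime_two_right.2 hAo).gcd_eq_one) h2)
        (by omega) (by omega))⟩
    rw [viaEmbedding_formPerm] at hc
    refine not_isSolvable_shift g (pow_mem hrot 4) ?_ ?_ ?_ hc <;>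
    · rw [rot_pow_apply]
      exact ((Nat.cast_add _ _).symm).trans rfl⟩
  have g1 : Good p (rot A) (rot A * Φ d₁)⁻¹ := Good.symm ⟨hn1, by
    set G := closure ({(rot A * Φ d₁)⁻¹, rot A} : Set (Perm (ZMod A)))
    have hrot : rot A ∈ G := subset_closure (by simp)
    have he : rot A * Φ d₁ * (rot A)⁻¹ = Φ (Equiv.swap 1 5 * Equiv.swap 3 6) := by
      rw [show d₁ = Equiv.swap 0 4 * Equiv.swap 2 5 from rfl, map_mul, map_mul]
      simp only [Φ, viaEmbedding_swap]
      rw [show ∀ r a b : Perm (ZMod A), r * (a * b) * r⁻¹ = (r * a * r⁻¹) * (r * b * r⁻¹) from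
          fun r a b => by group,
        ← Equiv.swap_apply_apply, ← Equiv.swap_apply_apply, hrf 0 1 rfl, hrf 4 5 rfl, hrf 2 3 rfl, hrf 5 6 rfl]
    have hY : Φ [1, 5, 2].formPerm ∈ G := by
      have h1 := mul_mem hm1 (mul_mem (mul_mem hrot hm1) (inv_mem hrot))
      rw [he, ← map_mul] at h1
      have h2 := mul_mem h1 h1
      rw [← map_mul] at h2
      convert h2 using 2
      decide +kernel
    have hY' : Φ [2, 6, 3].formPerm ∈ G := by
      have := mul_mem (mul_mem hrot hY) (inv_mem hrot)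
      rw [viaEmbedding_formPerm, conj_formPerm, List.map_map] at this
      rw [viaEmbedding_formPerm]
      convert this using 2
      simp [hrf 1 2 rfl, hrf 5 6 rfl, hrf 2 3 rfl]
    have hc : Φ [1, 2, 3].formPerm ∈ G := by
      have h1 := mul_mem (mul_mem (mul_mem (inv_mem hY') hY) hY') (inv_mem hY)
      rw [← map_inv, ← map_inv, ← map_mul, ← map_mul, ← map_mul] at h1
      convert h1 using 2
      decide +kernel
    let g : Fin 5 ↪ ZMod A := ⟨fun i => ((1 + (i : ℕ) : ℕ) : ZMod A), fun i j e =>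
      Fin.ext (by have := cast_inj (A := A) (by omega) (by omega) e; omega)⟩
    rw [viaEmbedding_formPerm] at hc
    refine not_isSolvable_shift g (pow_mem hrot 2) ?_ ?_ ?_ hc <;>
    · rw [rot_pow_apply]
      exact ((Nat.cast_add _ _).symm).trans rfl⟩
  refine ⟨(rot A * Φ d₀)⁻¹, Φ π₁ * (Φ (Equiv.swap 1 3))⁻¹, ?_, ?_, g0, ?_⟩
  · rw [cycleType_inv, he0, cycleType_conj, ← formPerm_run,
      (List.isCycle_formPerm (run_nodup (by omega)) (by simp [run]; omega)).cycleType,
      List.support_formPerm_of_nodup _ (run_nodup (by omega)) (fun x hx => by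
        have := congrArg List.length hx
        simp [run] at this
        omega),
      List.toFinset_card_of_nodup (run_nodup (by omega))]
    simp [run]
  · rw [map_mul, map_inv, viaEmbedding_formPerm, viaEmbedding_swap, Perm.sign_swap (f.injective.ne (by decide))]
    have hnd : (List.map f [1, 5, 2, 3, 4]).Nodup := List.Nodup.map f.injective (by decide)
    rw [(List.isCycle_formPerm hnd (by simp)).sign, List.support_formPerm_of_nodup _ hnd (fun x hx => by simp at hx),
      List.toFinset_card_of_nodup hnd]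
    simp
    decide
  · convert g1 using 1
    rw [he0, he1]
    group

end ZMod

end CfsgLib.AltPFree
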